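import Mathlib.GroupTheory.SpecificGroups.Alternating
import Mathlib.GroupTheory.PGroup
import Mathlib.GroupTheory.Perm.Sign
import Mathlib.LinearAlgebra.Dimension.Finrank
import Mathlib.LinearAlgebra.FiniteDimensional.Defs
import Mathlib.RingTheory.RootsOfUnity.PrimitiveRoots
import Mathlib.LinearAlgebra.Eigenspace.Basic
import Mathlib.LinearAlgebra.Dimension.Constructions
import Mathlib.Tactic.FieldSimp
import Mathlib.Tactic.LinearCombination
import Mathlib.Tactic.Module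
set_option linter.all false

-- part: H224/E8Defs
section
/-!
# Definitions for part T3 of S2654 (helper224)

The permutations `x 0, ..., x 5`, `c`, `d` (= `c'` of the plan) of 18 points, the group `P18` of order `3 ^ 8`
generated by them, and the weight spaces of the elementary abelian group `<x 0, ..., x 5>`.

The final theorem of part T3b (in `Cfsg.Agent.H224.E8T3b`) is

`theorem Cfsg.Agent.H224.E8.false_of_wsp {K V : Type*} [Field K] [AddCommGroup V] [Module K V] [FiniteDimensional K V]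
  {w : K} (hw : IsPrimitiveRoot w 3) (ρ : ↥P18 →* Module.End K V) (hfus : Fus ρ)
  (h345 : ∀ lam, 3 ≤ nz lam → nz lam ≤ 5 → wsp w ρ lam = ⊥)
  (h6 : ∀ lam, nz lam = 6 → Module.finrank K (wsp w ρ lam) = 2) : False`
-/

set_option autoImplicit false

namespace Cfsg.Agent.H224.E8

open Equiv

/-- The product of a list of transpositions of the points `0, ..., 17`. -/
def sw (L : List (Fin 18 × Fin 18)) : Perm (Fin 18) := (L.map fun p => swap p.1 p.2).prod

theorem sign_sw : ∀ L : List (Fin 18 × Fin 18), (∀ p ∈ L, p.1 ≠ p.2) → Perm.sign (sw L) = (-1) ^ L.length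
  | [], _ => by simp [sw]
  | p :: L, h => by
    have h1 : sw (p :: L) = swap p.1 p.2 * sw L := by simp [sw]
    rw [h1, Perm.sign_mul, Perm.sign_swap (h p (by simp)), sign_sw L (fun q hq => h q (by simp [hq])),
      List.length_cons, pow_succ']

theorem sw_mem (L : List (Fin 18 × Fin 18)) (h : ∀ p ∈ L, p.1 ≠ p.2) (h2 : Even L.length) :
    sw L ∈ alternatingGroup (Fin 18) := by
  rw [Perm.mem_alternatingGroup, sign_sw L h, h2.neg_one_pow]

/-- The three-cycle `(3 i, 3 i + 1, 3 i + 2)`. -/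
def xp (i : Fin 6) : Perm (Fin 18) :=
  sw [(⟨3 * i, by omega⟩, ⟨3 * i + 1, by omega⟩), (⟨3 * i + 1, by omega⟩, ⟨3 * i + 2, by omega⟩)]

/-- The nine-cycle `(0, 3, 6, 1, 4, 7, 2, 5, 8)`. -/
def cp : Perm (Fin 18) := sw [(0, 3), (3, 6), (6, 1), (1, 4), (4, 7), (7, 2), (2, 5), (5, 8)]

/-- The nine-cycle `(9, 12, 15, 10, 13, 16, 11, 14, 17)`. -/
def dp : Perm (Fin 18) := sw [(9, 12), (12, 15), (15, 10), (10, 13), (13, 16), (16, 11), (11, 14), (14, 17)]

/-- The three-cycle `(3 i, 3 i + 1, 3 i + 2)` (in the plan: `x_(i+1)`). -/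
def x (i : Fin 6) : ↥(alternatingGroup (Fin 18)) :=
  ⟨xp i, sw_mem _ (by intro p hp; fin_cases hp <;> simp) (by simp)⟩

/-- The nine-cycle `(0, 3, 6, 1, 4, 7, 2, 5, 8)`. -/
def c : ↥(alternatingGroup (Fin 18)) := ⟨cp, sw_mem _ (by decide +kernel) (by decide +kernel)⟩

/-- The nine-cycle `(9, 12, 15, 10, 13, 16, 11, 14, 17)` (in the plan: `c'`). -/
def d : ↥(alternatingGroup (Fin 18)) := ⟨dp, sw_mem _ (by decide +kernel) (by decide +kernel)⟩

/-- The group of order `3 ^ 8`. -/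
def P18 : Subgroup ↥(alternatingGroup (Fin 18)) := Subgroup.closure (Set.range x ∪ {c, d})

theorem x_mem (i : Fin 6) : x i ∈ P18 := Subgroup.subset_closure (Or.inl ⟨i, rfl⟩)
theorem c_mem : c ∈ P18 := Subgroup.subset_closure (Or.inr (by simp))
theorem d_mem : d ∈ P18 := Subgroup.subset_closure (Or.inr (by simp))

theorem P18_le {S : Subgroup ↥(alternatingGroup (Fin 18))} (hx : ∀ i, x i ∈ S) (hc : c ∈ S) (hd : d ∈ S) :
    P18 ≤ S := by
  rw [P18, Subgroup.closure_le, Set.union_subset_iff]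
  refine ⟨Set.range_subset_iff.2 hx, Set.insert_subset hc (Set.singleton_subset_iff.2 hd)⟩

/-- `x i` as an element of `P18`. -/
def xP (i : Fin 6) : ↥P18 := ⟨x i, x_mem i⟩
/-- `c` as an element of `P18`. -/
def cP : ↥P18 := ⟨c, c_mem⟩
/-- `d` as an element of `P18`. -/
def dP : ↥P18 := ⟨d, d_mem⟩

/-- The number of non-zero coordinates of a weight. -/
def nz (lam : Fin 6 → ZMod 3) : ℕ := (Finset.univ.filter fun i => lam i ≠ 0).card

section

variable {K V : Type*} [Field K] [AddCommGroup V] [Module K V]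

/-- The weight space of `<x 0, ..., x 5>` of weight `lam`: `x i v = w ^ (lam i) v`. -/
def wsp (w : K) (ρ : ↥P18 →* Module.End K V) (lam : Fin 6 → ZMod 3) : Submodule K V where
  carrier := {v | ∀ i, ρ (xP i) v = w ^ (lam i).val • v}
  add_mem' := by
    intro a b ha hb i
    rw [map_add, ha i, hb i, smul_add]
  zero_mem' := by
    intro i
    rw [map_zero, smul_zero]
  smul_mem' := by
    intro r a ha i
    rw [map_smul, ha i, smul_comm]

theorem mem_wsp {w : K} {ρ : ↥P18 →* Module.End K V} {lam : Fin 6 → ZMod 3} {v : V} :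
    v ∈ wsp w ρ lam ↔ ∀ i, ρ (xP i) v = w ^ (lam i).val • v := Iff.rfl

/-- The fusion of `P18` in `A_18` is realised by linear automorphisms of `V`, simultaneously for the elements of
a subgroup. -/
def Fus (ρ : ↥P18 →* Module.End K V) : Prop :=
  ∀ (a : ↥(alternatingGroup (Fin 18))) (Q : Subgroup ↥(alternatingGroup (Fin 18))) (hQ : Q ≤ P18)
    (hQ' : ∀ q ∈ Q, a * q * a⁻¹ ∈ P18),
    ∃ h : V ≃ₗ[K] V, ∀ q (hq : q ∈ Q) (v : V), h (ρ ⟨q, hQ hq⟩ v) = ρ ⟨a * q * a⁻¹, hQ' q hq⟩ (h v)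

end

/-! ### `P18` is a 3-group -/

theorem x_comm (i j : Fin 6) : x i * x j = x j * x i := by
  apply Subtype.ext
  have : ∀ i j : Fin 6, xp i * xp j = xp j * xp i := by decide +kernel
  exact this i j

theorem x_cube (i : Fin 6) : x i ^ 3 = 1 := by
  apply Subtype.ext
  have : ∀ i : Fin 6, xp i ^ 3 = 1 := by decide +kernel
  exact this i

theorem c_nine : c ^ 9 = 1 := by
  apply Subtype.ext
  have : cp ^ 9 = 1 := by decide +kernel
  exact this

theorem d_nine : d ^ 9 = 1 := by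
  apply Subtype.ext
  have : dp ^ 9 = 1 := by decide +kernel
  exact this

theorem cd_comm : c * d = d * c := by
  apply Subtype.ext
  have : cp * dp = dp * cp := by decide +kernel
  exact this

/-- Conjugation by `c` on the `x i`. -/
def sc : Fin 6 → Fin 6 := ![1, 2, 0, 3, 4, 5]

/-- Conjugation by `d` on the `x i`. -/
def sd : Fin 6 → Fin 6 := ![0, 1, 2, 4, 5, 3]

theorem c_x (i : Fin 6) : c * x i * c⁻¹ = x (sc i) := by
  apply Subtype.ext
  have : ∀ i : Fin 6, cp * xp i * cp⁻¹ = xp (sc i) := by decide +kernel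
  exact this i

theorem d_x (i : Fin 6) : d * x i * d⁻¹ = x (sd i) := by
  apply Subtype.ext
  have : ∀ i : Fin 6, dp * xp i * dp⁻¹ = xp (sd i) := by decide +kernel
  exact this i

theorem c_cube : c ^ 3 = x 0 * x 1 * x 2 := by
  apply Subtype.ext
  have : cp ^ 3 = xp 0 * xp 1 * xp 2 := by decide +kernel
  exact this

theorem d_cube : d ^ 3 = x 3 * x 4 * x 5 := by
  apply Subtype.ext
  have : dp ^ 3 = xp 3 * xp 4 * xp 5 := by decide +kernel
  exact this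

/-- The elementary abelian group `<x 0, ..., x 5>`. -/
def E18 : Subgroup ↥(alternatingGroup (Fin 18)) := Subgroup.closure (Set.range x)

theorem isPGroup_E18 : IsPGroup 3 ↥E18 := by
  have hc : ∀ g ∈ E18, ∀ h ∈ E18, g * h = h * g := by
    intro g hg h hh
    induction hg, hh using Subgroup.closure_induction₂ with
    | mem a b ha hb =>
      obtain ⟨i, rfl⟩ := ha
      obtain ⟨j, rfl⟩ := hb
      exact x_comm i j
    | one_left a _ => simp
    | one_right a _ => simp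
    | mul_left a b e _ _ _ h1 h2 => rw [mul_assoc, h2, ← mul_assoc, h1, mul_assoc]
    | mul_right a b e _ _ _ h1 h2 => rw [← mul_assoc, h1, mul_assoc, h2, mul_assoc]
    | inv_left a b _ _ h1 => exact (Commute.inv_left (show Commute a b from h1)).eq
    | inv_right a b _ _ h1 => exact (Commute.inv_right (show Commute a b from h1)).eq
  rintro ⟨g, hg⟩
  refine ⟨1, Subtype.ext ?_⟩
  show g ^ (3 ^ 1) = 1
  rw [pow_one]
  have : ∀ g ∈ E18, g ∈ E18 ∧ g ^ 3 = 1 := by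
    intro g hg
    induction hg using Subgroup.closure_induction with
    | mem a ha =>
      obtain ⟨i, rfl⟩ := ha
      exact ⟨Subgroup.subset_closure ⟨i, rfl⟩, x_cube i⟩
    | one => exact ⟨one_mem _, one_pow _⟩
    | mul a b ha hb h1 h2 =>
      exact ⟨mul_mem h1.1 h2.1, by rw [Commute.mul_pow (hc a h1.1 b h2.1), h1.2, h2.2, one_mul]⟩
    | inv a ha h1 => exact ⟨inv_mem h1.1, by rw [inv_pow, h1.2, inv_one]⟩
  exact (this g hg).2

theorem isPGroup_zpowers {g : ↥(alternatingGroup (Fin 18))} (hg : g ^ 9 = 1) : IsPGroup 3 ↥(Subgroup.zpowers g) := by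
  rintro ⟨_, k, rfl⟩
  refine ⟨2, Subtype.ext ?_⟩
  show (g ^ k) ^ (3 ^ 2) = 1
  rw [show (3 ^ 2 : ℕ) = 9 from rfl, ← zpow_natCast, ← zpow_mul, mul_comm, zpow_mul, zpow_natCast, hg, one_zpow]

theorem mem_normalizer_closure {G ι : Type*} [Group G] (x : ι → G) (c : G) (s : ι → ι)
    (hs : Function.Surjective s) (h : ∀ i, c * x i * c⁻¹ = x (s i)) :
    c ∈ Subgroup.normalizer (Subgroup.closure (Set.range x) : Set G) := by
  have h1 : (Subgroup.closure (Set.range x)).map (MulAut.conj c).toMonoidHom ≤ Subgroup.closure (Set.range x) := by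
    rw [MonoidHom.map_closure, Subgroup.closure_le]
    rintro _ ⟨_, ⟨i, rfl⟩, rfl⟩
    refine Subgroup.subset_closure ⟨s i, ?_⟩
    simp [← h]
  have h2 : (Subgroup.closure (Set.range x)).map (MulAut.conj c⁻¹).toMonoidHom ≤ Subgroup.closure (Set.range x) := by
    rw [MonoidHom.map_closure, Subgroup.closure_le]
    rintro _ ⟨_, ⟨i, rfl⟩, rfl⟩
    obtain ⟨j, rfl⟩ := hs i
    refine Subgroup.subset_closure ⟨j, ?_⟩
    simp only [MulEquiv.coe_toMonoidHom, MulAut.conj_apply, inv_inv, ← h]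
    group
  rw [Subgroup.mem_normalizer_iff]
  intro g
  constructor
  · intro hg; exact h1 ⟨g, hg, rfl⟩
  · intro hg
    have := h2 ⟨_, hg, rfl⟩
    simpa [mul_assoc] using this

theorem mem_normalizer_sup {G : Type*} [Group G] {E : Subgroup G} {c d : G}
    (hd : d ∈ Subgroup.normalizer (E : Set G)) (hcd : c * d = d * c) :
    d ∈ Subgroup.normalizer ((E ⊔ Subgroup.zpowers c : Subgroup G) : Set G) := by
  have hmap : (E ⊔ Subgroup.zpowers c).map (MulAut.conj d).toMonoidHom = E ⊔ Subgroup.zpowers c := by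
    rw [Subgroup.map_sup, MonoidHom.map_zpowers]
    congr 1
    · apply le_antisymm
      · rintro _ ⟨g, hg, rfl⟩
        exact (Subgroup.mem_normalizer_iff.1 hd g).1 hg
      · intro g hg
        refine ⟨d⁻¹ * g * d, ?_, by simp [mul_assoc]⟩
        have := (Subgroup.mem_normalizer_iff.1 (inv_mem hd) g).1 hg
        simpa using this
    · have : (MulAut.conj d).toMonoidHom c = c := by
        simp only [MulEquiv.coe_toMonoidHom, MulAut.conj_apply]
        rw [← hcd, mul_inv_cancel_right]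
      rw [this]
  rw [Subgroup.mem_normalizer_iff]
  intro g
  constructor
  · intro hg
    have : d * g * d⁻¹ ∈ (E ⊔ Subgroup.zpowers c).map (MulAut.conj d).toMonoidHom := ⟨g, hg, rfl⟩
    rwa [hmap] at this
  · intro hg
    rw [← hmap] at hg
    obtain ⟨g', hg', he⟩ := hg
    have : g' = g := by
      simp only [MulEquiv.coe_toMonoidHom, MulAut.conj_apply] at he
      exact mul_left_cancel (mul_right_cancel he)
    exact this ▸ hg'

theorem c_mem_normalizer : c ∈ Subgroup.normalizer (E18 : Set ↥(alternatingGroup (Fin 18))) :=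
  mem_normalizer_closure x c sc (by decide) c_x

theorem d_mem_normalizer : d ∈ Subgroup.normalizer (E18 : Set ↥(alternatingGroup (Fin 18))) :=
  mem_normalizer_closure x d sd (by decide) d_x

theorem isPGroup_P18 : IsPGroup 3 ↥P18 := by
  have h1 : IsPGroup 3 ↥(E18 ⊔ Subgroup.zpowers c) :=
    IsPGroup.to_sup_of_normal_left' isPGroup_E18 (isPGroup_zpowers c_nine) (by
      rw [Subgroup.zpowers_le]; exact c_mem_normalizer)
  have h2 : IsPGroup 3 ↥((E18 ⊔ Subgroup.zpowers c) ⊔ Subgroup.zpowers d) := by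
    refine IsPGroup.to_sup_of_normal_left' h1 (isPGroup_zpowers d_nine) ?_
    rw [Subgroup.zpowers_le]
    exact mem_normalizer_sup d_mem_normalizer cd_comm
  exact h2.to_le (P18_le
    (fun i => Subgroup.mem_sup_left (Subgroup.mem_sup_left (Subgroup.subset_closure ⟨i, rfl⟩)))
    (Subgroup.mem_sup_left (Subgroup.mem_sup_right (Subgroup.mem_zpowers c)))
    (Subgroup.mem_sup_right (Subgroup.mem_zpowers d)))

end Cfsg.Agent.H224.E8
end

-- part: H224/E8Lin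
section
/-!
# Linear algebra for part T3b of S2654 (helper224)
-/

set_option autoImplicit false

namespace Cfsg.Agent.H224.E8

open Module

variable {K V : Type*} [Field K] [AddCommGroup V] [Module K V]

/-- The eigenspace, as the set of `v` with `X v = z v`. -/
def eig (X : Module.End K V) (z : K) : Submodule K V where
  carrier := {v | X v = z • v}
  add_mem' := by
    intro a b ha hb
    show X (a + b) = z • (a + b)
    rw [map_add, smul_add, show X a = z • a from ha, show X b = z • b from hb]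
  zero_mem' := by show X 0 = z • 0; rw [map_zero, smul_zero]
  smul_mem' := by
    intro r a ha
    show X (r • a) = z • (r • a)
    rw [map_smul, show X a = z • a from ha, smul_comm]

theorem mem_eig {X : Module.End K V} {z : K} {v : V} : v ∈ eig X z ↔ X v = z • v := Iff.rfl

variable {w : K}

theorem w_cube (hw : IsPrimitiveRoot w 3) : w ^ 3 = 1 := hw.pow_eq_one

theorem w_sum (hw : IsPrimitiveRoot w 3) : 1 + w + w ^ 2 = 0 := by
  have h1 : w ≠ 1 := hw.ne_one (by norm_num)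
  have h2 : (w - 1) * (1 + w + w ^ 2) = 0 := by linear_combination w_cube hw
  exact (mul_eq_zero.1 h2).resolve_left (sub_ne_zero.2 h1)

theorem three_ne (hw : IsPrimitiveRoot w 3) : (3 : K) ≠ 0 := by
  intro h
  have h1 := w_sum hw
  have h2 : (w - 1) ^ 2 = 0 := by linear_combination h1 - w * h
  exact hw.ne_one (by norm_num) (sub_eq_zero.1 (pow_eq_zero_iff (by norm_num) |>.1 h2))

/-- The projection onto the eigenspace of `X` with eigenvalue `z`, `z ^ 3 = 1`. -/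
def prj (X : Module.End K V) (z : K) (v : V) : V := (3 : K)⁻¹ • (v + z ^ 2 • X v + z • X (X v))

variable [FiniteDimensional K V]

/-- Splitting of an invariant subspace by an operator whose cube is the identity. -/
theorem split3 (hw : IsPrimitiveRoot w 3) {X : Module.End K V} {S : Submodule K V} (hS : ∀ v ∈ S, X v ∈ S)
    (h3 : ∀ v ∈ S, X (X (X v)) = v) :
    finrank K S = ∑ k ∈ Finset.range 3, finrank K (S ⊓ eig X (w ^ k) : Submodule K V) := by
  have hc := w_cube hw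
  have hs := w_sum hw
  have h30 := three_ne hw
  -- membership of the projections
  have hmem : ∀ z : K, z ^ 3 = 1 → ∀ v ∈ S, prj X z v ∈ S ⊓ eig X z := by
    intro z hz v hv
    refine ⟨S.smul_mem _ (S.add_mem (S.add_mem hv (S.smul_mem _ (hS v hv))) (S.smul_mem _ (hS _ (hS v hv)))), ?_⟩
    show X _ = _
    rw [prj, map_smul, map_add, map_add, map_smul, map_smul, h3 v hv, smul_comm z]
    congr 1
    rw [smul_add, smul_add, smul_smul, smul_smul, show z * z ^ 2 = 1 by rw [← hz]; ring, one_smul,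
      show z * z = z ^ 2 by ring]
    abel
  have hfix : ∀ z : K, z ^ 3 = 1 → ∀ v, X v = z • v → prj X z v = v := by
    intro z hz v hv
    have h2 : v + z ^ 2 • z • v + z • z • z • v = (3 : K) • v := by
      rw [show v + z ^ 2 • z • v + z • z • z • v = (1 + z ^ 3 + z ^ 3) • v by module, hz]
      module
    rw [prj, hv, map_smul, hv, h2, smul_smul, inv_mul_cancel₀ h30, one_smul]
  have hzero : ∀ z z' : K, z ^ 3 = 1 → z' ^ 3 = 1 → z ≠ z' → ∀ v, X v = z' • v → prj X z v = 0 := by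
    intro z z' hz hz' hne v hv
    have h1 : z ^ 2 + z * z' + z' ^ 2 = 0 := by
      have h2 : (z - z') * (z ^ 2 + z * z' + z' ^ 2) = 0 := by linear_combination hz - hz'
      exact (mul_eq_zero.1 h2).resolve_left (sub_ne_zero.2 hne)
    have h2 : v + z ^ 2 • z' • v + z • z' • z' • v = (1 + z ^ 2 * z' + z * z' ^ 2) • v := by module
    rw [prj, hv, map_smul, hv, h2, show 1 + z ^ 2 * z' + z * z' ^ 2 = 0 by linear_combination z' * h1 - hz',
      zero_smul, smul_zero]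
  let f : S →ₗ[K] ((S ⊓ eig X (w ^ 0) : Submodule K V) × (S ⊓ eig X (w ^ 1) : Submodule K V)) ×
      (S ⊓ eig X (w ^ 2) : Submodule K V) :=
    { toFun := fun v => ((⟨prj X (w ^ 0) v, hmem _ (by rw [← pow_mul, pow_mul', hc, one_pow]) v v.2⟩,
        ⟨prj X (w ^ 1) v, hmem _ (by rw [← pow_mul, pow_mul', hc, one_pow]) v v.2⟩),
        ⟨prj X (w ^ 2) v, hmem _ (by rw [← pow_mul, pow_mul', hc, one_pow]) v v.2⟩)
      map_add' := by
        intro a b
        have : ∀ z : K, prj X z ((a : V) + b) = prj X z a + prj X z b := by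
          intro z; simp only [prj, map_add, smul_add]; abel
        ext <;> exact this _
      map_smul' := by
        intro r a
        have : ∀ z : K, prj X z (r • (a : V)) = r • prj X z a := by
          intro z
          simp only [prj, map_smul, smul_add, smul_comm _ r]
        ext <;> exact this _ }
  let g : ((S ⊓ eig X (w ^ 0) : Submodule K V) × (S ⊓ eig X (w ^ 1) : Submodule K V)) ×
      (S ⊓ eig X (w ^ 2) : Submodule K V) →ₗ[K] S :=
    { toFun := fun p => ⟨(p.1.1 : V) + p.1.2 + p.2, S.add_mem (S.add_mem p.1.1.2.1 p.1.2.2.1) p.2.2.1⟩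
      map_add' := by
        intro a b
        apply Subtype.ext
        show ((a.1.1 : V) + b.1.1) + ((a.1.2 : V) + b.1.2) + ((a.2 : V) + b.2) = _ + _
        show _ = ((a.1.1 : V) + a.1.2 + a.2) + ((b.1.1 : V) + b.1.2 + b.2)
        abel
      map_smul' := by
        intro r a
        apply Subtype.ext
        show (r • (a.1.1 : V)) + (r • (a.1.2 : V)) + (r • (a.2 : V)) = r • ((a.1.1 : V) + a.1.2 + a.2)
        rw [smul_add, smul_add] }
  have h01 : (w ^ 0 : K) ≠ w ^ 1 := by simpa using (hw.ne_one (by norm_num)).symm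
  have h02 : (w ^ 0 : K) ≠ w ^ 2 := by
    intro h
    exact hw.pow_ne_one_of_pos_of_lt (by norm_num) (by norm_num) (by rw [← h, pow_zero] : w ^ 2 = 1)
  have h12 : (w ^ 1 : K) ≠ w ^ 2 := by
    intro h
    apply h01
    have h4 : w ≠ 0 := by rintro rfl; norm_num at hc
    have : w * 1 = w * w := by rw [mul_one, ← sq, ← h, pow_one]
    rw [pow_zero, pow_one]
    exact mul_left_cancel₀ h4 this
  have hp0 : (w ^ 0 : K) ^ 3 = 1 := by simp
  have hp1 : (w ^ 1 : K) ^ 3 = 1 := by simpa using hc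
  have hp2 : (w ^ 2 : K) ^ 3 = 1 := by rw [← pow_mul, pow_mul', hc, one_pow]
  have hfg : f.comp g = LinearMap.id := by
    apply LinearMap.ext
    rintro ⟨⟨⟨a, ha⟩, ⟨b, hb⟩⟩, ⟨e, he⟩⟩
    have hadd : ∀ z : K, ∀ u v : V, prj X z (u + v) = prj X z u + prj X z v := by
      intro z u v; simp only [prj, map_add, smul_add]; abel
    have e0 : prj X (w ^ 0) (a + b + e) = a := by
      rw [hadd, hadd, hfix _ hp0 a ha.2, hzero _ _ hp0 hp1 h01 b hb.2, hzero _ _ hp0 hp2 h02 e he.2, add_zero,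
        add_zero]
    have e1 : prj X (w ^ 1) (a + b + e) = b := by
      rw [hadd, hadd, hzero _ _ hp1 hp0 h01.symm a ha.2, hfix _ hp1 b hb.2, hzero _ _ hp1 hp2 h12 e he.2, add_zero,
        zero_add]
    have e2 : prj X (w ^ 2) (a + b + e) = e := by
      rw [hadd, hadd, hzero _ _ hp2 hp0 h02.symm a ha.2, hzero _ _ hp2 hp1 h12.symm b hb.2, hfix _ hp2 e he.2,
        add_zero, zero_add]
    refine Prod.ext (Prod.ext (Subtype.ext e0) (Subtype.ext e1)) (Subtype.ext e2)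
  have hgf : g.comp f = LinearMap.id := by
    apply LinearMap.ext
    rintro ⟨v, hv⟩
    apply Subtype.ext
    show prj X (w ^ 0) v + prj X (w ^ 1) v + prj X (w ^ 2) v = v
    simp only [prj]
    rw [← smul_add, ← smul_add]
    have h5 : v + (w ^ 0) ^ 2 • X v + w ^ 0 • X (X v) + (v + (w ^ 1) ^ 2 • X v + w ^ 1 • X (X v)) +
        (v + (w ^ 2) ^ 2 • X v + w ^ 2 • X (X v)) =
        (3 : K) • v + (1 + w ^ 2 + w ^ 4) • X v + (1 + w + w ^ 2) • X (X v) := by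
      module
    rw [h5, hs, show 1 + w ^ 2 + w ^ 4 = 0 by linear_combination hs + w * hc, zero_smul, zero_smul, add_zero,
      add_zero, smul_smul, inv_mul_cancel₀ h30, one_smul]
  have he := (LinearEquiv.ofLinearMap f g hfg hgf).finrank_eq
  rw [he, finrank_prod, finrank_prod, Finset.sum_range_succ, Finset.sum_range_succ, Finset.sum_range_one]

omit [FiniteDimensional K V] in
/-- Multiplication by an operator `T` which commutes with `g` up to a scalar permutes the eigenspaces of `g`. -/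
theorem twist {g T T' : Module.End K V} {S : Submodule K V} (hT : ∀ v ∈ S, T v ∈ S) (hT' : ∀ v ∈ S, T' v ∈ S)
    (h1 : ∀ v ∈ S, T (T' v) = v) (h2 : ∀ v ∈ S, T' (T v) = v) {k k' : K} (hk : k' * k = 1)
    (hgT : ∀ v ∈ S, g (T v) = k • T (g v)) (hgT' : ∀ v ∈ S, g (T' v) = k' • T' (g v)) (z : K) :
    finrank K (S ⊓ eig g z : Submodule K V) = finrank K (S ⊓ eig g (k * z) : Submodule K V) := by
  refine LinearEquiv.finrank_eq (LinearEquiv.ofLinear
    (T.restrict (p := (S ⊓ eig g z : Submodule K V)) (q := (S ⊓ eig g (k * z) : Submodule K V)) ?_)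
    (T'.restrict (p := (S ⊓ eig g (k * z) : Submodule K V)) (q := (S ⊓ eig g z : Submodule K V)) ?_) ?_ ?_)
  · intro v hv
    refine ⟨hT v hv.1, ?_⟩
    show g (T v) = _
    rw [hgT v hv.1, show g v = z • v from hv.2, map_smul, smul_smul]
  · intro v hv
    refine ⟨hT' v hv.1, ?_⟩
    show g (T' v) = _
    rw [hgT' v hv.1, show g v = (k * z) • v from hv.2, map_smul, smul_smul, ← mul_assoc, hk, one_mul]
  · apply LinearMap.ext
    rintro ⟨v, hv⟩
    exact Subtype.ext (h1 v hv.1)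
  · apply LinearMap.ext
    rintro ⟨v, hv⟩
    exact Subtype.ext (h2 v hv.1)

/-! ### The difference of two multiplicities -/

/-- `dim ker (g - 1) - dim ker (g - w)` on the subspace `S`. -/
noncomputable def dd (w : K) (S : Submodule K V) (g : Module.End K V) : ℤ :=
  (finrank K (S ⊓ eig g 1 : Submodule K V) : ℤ) - finrank K (S ⊓ eig g w : Submodule K V)

theorem dd_split (hw : IsPrimitiveRoot w 3) {X g : Module.End K V} {S : Submodule K V} (hS : ∀ v ∈ S, X v ∈ S)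
    (h3 : ∀ v ∈ S, X (X (X v)) = v) (hg : ∀ v ∈ S, g (X v) = X (g v)) :
    dd w S g = ∑ k ∈ Finset.range 3, dd w (S ⊓ eig X (w ^ k)) g := by
  have key : ∀ z : K, finrank K (S ⊓ eig g z : Submodule K V) =
      ∑ k ∈ Finset.range 3, finrank K ((S ⊓ eig X (w ^ k)) ⊓ eig g z : Submodule K V) := by
    intro z
    have h1 := split3 hw (X := X) (S := S ⊓ eig g z) (by
      intro v hv
      refine ⟨hS v hv.1, ?_⟩
      show g (X v) = z • X v
      rw [hg v hv.1, show g v = z • v from hv.2, map_smul]) (fun v hv => h3 v hv.1)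
    rw [h1]
    refine Finset.sum_congr rfl fun k _ => ?_
    rw [inf_right_comm]
  rw [dd, key, key, Nat.cast_sum, Nat.cast_sum, ← Finset.sum_sub_distrib]
  rfl

omit [FiniteDimensional K V] in
theorem dd_zero (hw : IsPrimitiveRoot w 3) {g T T' : Module.End K V} {S : Submodule K V}
    (hT : ∀ v ∈ S, T v ∈ S) (hT' : ∀ v ∈ S, T' v ∈ S)
    (h1 : ∀ v ∈ S, T (T' v) = v) (h2 : ∀ v ∈ S, T' (T v) = v) {k : ℕ} (hk : k = 1 ∨ k = 2)
    (hgT : ∀ v ∈ S, g (T v) = w ^ k • T (g v)) (hgT' : ∀ v ∈ S, g (T' v) = w ^ (2 * k) • T' (g v)) :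
    dd w S g = 0 := by
  have hc := w_cube hw
  have hkk : w ^ (2 * k) * w ^ k = 1 := by
    rw [← pow_add, show 2 * k + k = 3 * k by ring, pow_mul, hc, one_pow]
  rw [dd, sub_eq_zero, Nat.cast_inj]
  rcases hk with rfl | rfl
  · have h := twist hT hT' h1 h2 hkk hgT hgT' 1
    rw [h, mul_one, pow_one]
  · have h := twist hT hT' h1 h2 hkk hgT hgT' w
    rw [h, ← pow_succ, hc]

/-- The reduction: only the part of `S` where `z = 1` and `b = 1` contributes. -/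
theorem dd_red (hw : IsPrimitiveRoot w 3) {g a b z : Module.End K V} {S : Submodule K V}
    (ha : ∀ v ∈ S, a v ∈ S) (hb : ∀ v ∈ S, b v ∈ S) (hz : ∀ v ∈ S, z v ∈ S)
    (ha3 : ∀ v ∈ S, a (a (a v)) = v) (hb3 : ∀ v ∈ S, b (b (b v)) = v) (hz3 : ∀ v ∈ S, z (z (z v)) = v)
    (hab : ∀ v ∈ S, a (b v) = b (a v)) (haz : ∀ v ∈ S, a (z v) = z (a v)) (hbz : ∀ v ∈ S, b (z v) = z (b v))
    (h1 : ∀ v ∈ S, g (z v) = z (g v)) (h2 : ∀ v ∈ S, g (b v) = b (z (g v)))
    (h3 : ∀ v ∈ S, g (a v) = a (b (g v))) :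
    dd w S g = dd w ((S ⊓ eig z 1) ⊓ eig b 1) g := by
  have hc := w_cube hw
  rw [dd_split hw hz hz3 h1, Finset.sum_range_succ, Finset.sum_range_succ, Finset.sum_range_one, pow_zero]
  have hk : ∀ k : ℕ, k = 1 ∨ k = 2 → dd w (S ⊓ eig z (w ^ k)) g = 0 := by
    intro k hk
    have hinv : ∀ v ∈ (S ⊓ eig z (w ^ k) : Submodule K V), b v ∈ (S ⊓ eig z (w ^ k) : Submodule K V) := by
      intro v hv
      refine ⟨hb v hv.1, ?_⟩
      show z (b v) = _
      rw [← hbz v hv.1, show z v = w ^ k • v from hv.2, map_smul]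
    have hgv : ∀ v ∈ (S ⊓ eig z (w ^ k) : Submodule K V), z (g v) = w ^ k • g v := by
      intro v hv
      rw [← h1 v hv.1, show z v = w ^ k • v from hv.2, map_smul]
    have hgb : ∀ v ∈ (S ⊓ eig z (w ^ k) : Submodule K V), g (b v) = w ^ k • b (g v) := by
      intro v hv
      rw [h2 v hv.1, hgv v hv, map_smul]
    refine dd_zero hw (T := b) (T' := b * b) hinv (fun v hv => hinv _ (hinv v hv))
      (fun v hv => hb3 v hv.1) (fun v hv => hb3 v hv.1) hk hgb ?_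
    intro v hv
    show g (b (b v)) = w ^ (2 * k) • b (b (g v))
    rw [hgb _ (hinv v hv), hgb v hv, map_smul, smul_smul, ← pow_add, two_mul]
  rw [hk 1 (Or.inl rfl), hk 2 (Or.inr rfl), add_zero, add_zero]
  have hb' : ∀ v ∈ (S ⊓ eig z 1 : Submodule K V), b v ∈ (S ⊓ eig z 1 : Submodule K V) := by
    intro v hv
    refine ⟨hb v hv.1, ?_⟩
    show z (b v) = _
    rw [← hbz v hv.1, show z v = (1 : K) • v from hv.2, map_smul]
  have hg' : ∀ v ∈ (S ⊓ eig z 1 : Submodule K V), g (b v) = b (g v) := by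
    intro v hv
    rw [h2 v hv.1, ← h1 v hv.1, show z v = (1 : K) • v from hv.2, one_smul]
  rw [dd_split hw hb' (fun v hv => hb3 v hv.1) hg', Finset.sum_range_succ, Finset.sum_range_succ,
    Finset.sum_range_one, pow_zero]
  have hk : ∀ k : ℕ, k = 1 ∨ k = 2 → dd w ((S ⊓ eig z 1) ⊓ eig b (w ^ k)) g = 0 := by
    intro k hk
    have hinv : ∀ v ∈ ((S ⊓ eig z 1) ⊓ eig b (w ^ k) : Submodule K V),
        a v ∈ ((S ⊓ eig z 1) ⊓ eig b (w ^ k) : Submodule K V) := by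
      intro v hv
      refine ⟨⟨ha v hv.1.1, ?_⟩, ?_⟩
      · show z (a v) = _
        rw [← haz v hv.1.1, show z v = (1 : K) • v from hv.1.2, map_smul]
      · show b (a v) = _
        rw [← hab v hv.1.1, show b v = w ^ k • v from hv.2, map_smul]
    have hgv : ∀ v ∈ ((S ⊓ eig z 1) ⊓ eig b (w ^ k) : Submodule K V), b (g v) = w ^ k • g v := by
      intro v hv
      rw [← hg' v hv.1, show b v = w ^ k • v from hv.2, map_smul]
    have hgb : ∀ v ∈ ((S ⊓ eig z 1) ⊓ eig b (w ^ k) : Submodule K V), g (a v) = w ^ k • a (g v) := by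
      intro v hv
      rw [h3 v hv.1.1, hgv v hv, map_smul]
    refine dd_zero hw (T := a) (T' := a * a) hinv (fun v hv => hinv _ (hinv v hv))
      (fun v hv => ha3 v hv.1.1) (fun v hv => ha3 v hv.1.1) hk hgb ?_
    intro v hv
    show g (a (a v)) = w ^ (2 * k) • a (a (g v))
    rw [hgb _ (hinv v hv), hgb v hv, map_smul, smul_smul, ← pow_add, two_mul]
  rw [hk 1 (Or.inl rfl), hk 2 (Or.inr rfl), add_zero, add_zero]

end Cfsg.Agent.H224.E8
end

-- part: H224/E8Red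
section
/-!
# Part T3b of S2654: reduction to weights constant on the blocks (helper224)
-/

set_option autoImplicit false

namespace Cfsg.Agent.H224.E8

open Module

section Grp

variable {G : Type*} [Group G] {a b c g : G}

theorem grp1 (hab : a * b = b * a) (hb : b ^ 3 = 1) : (a⁻¹ * b) * (a * b * c) = b⁻¹ * c := by
  have h1 : b * b = b⁻¹ := by rw [eq_inv_iff_mul_eq_one, ← hb, pow_succ, sq]
  calc (a⁻¹ * b) * (a * b * c) = a⁻¹ * (b * a) * b * c := by simp only [mul_assoc]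
    _ = a⁻¹ * (a * b) * b * c := by rw [hab]
    _ = b * b * c := by rw [← mul_assoc a⁻¹, inv_mul_cancel, one_mul]
    _ = b⁻¹ * c := by rw [h1]

theorem grp2 (h : g * a = b * g) : g * a⁻¹ = b⁻¹ * g := by
  rw [eq_inv_mul_iff_mul_eq, ← mul_assoc, ← h, mul_inv_cancel_right]

theorem grp3 (h : g * a = b * g) (h' : g * b = c * g) : g * (a⁻¹ * b) = (b⁻¹ * c) * g := by
  rw [← mul_assoc, grp2 h, mul_assoc, h', mul_assoc]

theorem grp4 (hab : a * b = b * a) (hac : a * c = c * a) (h : g * a = b * g) (h' : g * b = c * g)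
    (h'' : g * c = a * g) : g * (a * b * c) = (a * b * c) * g := by
  calc g * (a * b * c) = (g * a) * b * c := by simp only [mul_assoc]
    _ = b * (g * b) * c := by rw [h]; simp only [mul_assoc]
    _ = b * c * (g * c) := by rw [h']; simp only [mul_assoc]
    _ = (b * c) * a * g := by rw [h'']; simp only [mul_assoc]
    _ = (a * b * c) * g := by rw [hab, mul_assoc b a c, hac, mul_assoc b c a]

end Grp

variable {K V : Type*} [Field K] [AddCommGroup V] [Module K V]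

section Act

variable (ρ : ↥P18 →* Module.End K V)

theorem act_mul (p q : ↥P18) (v : V) : ρ (p * q) v = ρ p (ρ q v) := by rw [map_mul]; rfl

theorem act_inv (p : ↥P18) (v : V) : ρ p⁻¹ (ρ p v) = v := by
  rw [← act_mul, inv_mul_cancel, map_one]; rfl

theorem act_inv' (p : ↥P18) (v : V) : ρ p (ρ p⁻¹ v) = v := by
  rw [← act_mul, mul_inv_cancel, map_one]; rfl

theorem act_cube {p : ↥P18} (h : p ^ 3 = 1) (v : V) : ρ p (ρ p (ρ p v)) = v := by
  rw [← act_mul, ← act_mul, show p * p * p = p ^ 3 by rw [pow_succ, sq], h, map_one]; rfl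

theorem act_eq {p q r s : ↥P18} (h : p * q = r * s) (v : V) : ρ p (ρ q v) = ρ r (ρ s v) := by
  rw [← act_mul, ← act_mul, h]

theorem xP_comm (i j : Fin 6) : xP i * xP j = xP j * xP i := Subtype.ext (x_comm i j)

theorem xP_cube (i : Fin 6) : xP i ^ 3 = 1 := Subtype.ext (x_cube i)

/-- The subspace on which `x i = x j = x k`. -/
def SE (i j k : Fin 6) : Submodule K V where
  carrier := {v | ρ (xP j) v = ρ (xP i) v ∧ ρ (xP k) v = ρ (xP i) v}
  add_mem' := by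
    rintro a b ⟨ha, ha'⟩ ⟨hb, hb'⟩
    exact ⟨by rw [map_add, map_add, ha, hb], by rw [map_add, map_add, ha', hb']⟩
  zero_mem' := ⟨by rw [map_zero, map_zero], by rw [map_zero, map_zero]⟩
  smul_mem' := by
    rintro r a ⟨ha, ha'⟩
    exact ⟨by rw [map_smul, map_smul, ha], by rw [map_smul, map_smul, ha']⟩

theorem mem_SE {i j k : Fin 6} {v : V} :
    v ∈ SE ρ i j k ↔ ρ (xP j) v = ρ (xP i) v ∧ ρ (xP k) v = ρ (xP i) v := Iff.rfl

/-- `SE` is the common fixed space of `z` and `b`. -/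
theorem SE_eq {i j k : Fin 6} (S : Submodule K V) :
    (S ⊓ eig (ρ (xP i * xP j * xP k)) 1) ⊓ eig (ρ ((xP i)⁻¹ * xP j)) 1 = S ⊓ SE ρ i j k := by
  have hcomm : ∀ (i j : Fin 6) (v : V), ρ (xP i) (ρ (xP j) v) = ρ (xP j) (ρ (xP i) v) := fun i j v =>
    act_eq ρ (xP_comm i j) v
  have hcube : ∀ (i : Fin 6) (v : V), ρ (xP i) (ρ (xP i) (ρ (xP i) v)) = v := fun i v =>
    act_cube ρ (xP_cube i) v
  apply le_antisymm
  · intro v hv
    have hS : v ∈ S := hv.1.1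
    have hz : ρ (xP i * xP j * xP k) v = (1 : K) • v := hv.1.2
    have hb : ρ ((xP i)⁻¹ * xP j) v = (1 : K) • v := hv.2
    rw [one_smul, act_mul] at hb
    rw [one_smul, act_mul, act_mul] at hz
    have h1 : ρ (xP j) v = ρ (xP i) v := by
      have := congrArg (ρ (xP i)) hb
      rwa [act_inv'] at this
    refine ⟨hS, h1, ?_⟩
    rw [hcomm j k, h1, hcomm k i, hcomm i i] at hz
    have h2 := congrArg (ρ (xP i)) hz
    rw [hcube] at h2
    exact h2
  · intro v hv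
    have h1 : ρ (xP j) v = ρ (xP i) v := hv.2.1
    have h2 : ρ (xP k) v = ρ (xP i) v := hv.2.2
    refine ⟨⟨hv.1, ?_⟩, ?_⟩
    · show ρ (xP i * xP j * xP k) v = (1 : K) • v
      rw [one_smul, act_mul, act_mul, h2, hcomm j i, h1, hcube]
    · show ρ ((xP i)⁻¹ * xP j) v = (1 : K) • v
      rw [one_smul, act_mul, h1, act_inv]

variable {w : K} [FiniteDimensional K V]

/-- Reduction for one block. -/
theorem dd_block (hw : IsPrimitiveRoot w 3) {i j k : Fin 6} {γ : ↥P18} (h0 : γ * xP i = xP j * γ)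
    (h1 : γ * xP j = xP k * γ) (h2 : γ * xP k = xP i * γ) {S : Submodule K V}
    (hi : ∀ v ∈ S, ρ (xP i) v ∈ S) (hi' : ∀ v ∈ S, ρ (xP i)⁻¹ v ∈ S) (hj : ∀ v ∈ S, ρ (xP j) v ∈ S)
    (hk : ∀ v ∈ S, ρ (xP k) v ∈ S) :
    dd w S (ρ γ) = dd w (S ⊓ SE ρ i j k) (ρ γ) := by
  have hcomm : ∀ (i j : Fin 6) (v : V), ρ (xP i) (ρ (xP j) v) = ρ (xP j) (ρ (xP i) v) := fun i j v =>
    act_eq ρ (xP_comm i j) v
  have hb3 : ((xP i)⁻¹ * xP j) ^ 3 = 1 := by
    have : Commute (xP i)⁻¹ (xP j) := Commute.inv_left (xP_comm i j)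
    rw [this.mul_pow, inv_pow, xP_cube, xP_cube, inv_one, one_mul]
  have hz3 : (xP i * xP j * xP k) ^ 3 = 1 := by
    have h3 : Commute (xP i * xP j) (xP k) := Commute.mul_left (xP_comm i k) (xP_comm j k)
    have h4 : Commute (xP i) (xP j) := xP_comm i j
    rw [h3.mul_pow, h4.mul_pow, xP_cube, xP_cube, xP_cube, one_mul, one_mul]
  have cij : Commute (xP i) (xP j) := xP_comm i j
  have cik : Commute (xP i) (xP k) := xP_comm i k
  have cjk : Commute (xP j) (xP k) := xP_comm j k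
  have cz : ∀ l, l = i ∨ l = j → Commute (xP l) (xP i * xP j * xP k) := fun l _ =>
    Commute.mul_right (Commute.mul_right (xP_comm l i) (xP_comm l j)) (xP_comm l k)
  rw [← SE_eq]
  refine dd_red hw (a := ρ (xP i)) hi ?_ ?_ (fun v _ => act_cube ρ (xP_cube i) v)
    (fun v _ => act_cube ρ hb3 v) (fun v _ => act_cube ρ hz3 v) ?_ ?_ ?_ ?_ ?_ ?_
  · intro v hv; rw [act_mul]; exact hi' _ (hj v hv)
  · intro v hv; rw [act_mul, act_mul]; exact hi _ (hj _ (hk v hv))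
  · intro v _
    exact act_eq ρ (Commute.mul_right (Commute.inv_right (Commute.refl _)) cij) v
  · intro v _
    exact act_eq ρ (cz i (Or.inl rfl)) v
  · intro v _
    exact act_eq ρ (Commute.mul_left (Commute.inv_left (cz i (Or.inl rfl))) (cz j (Or.inr rfl))) v
  · intro v _
    exact act_eq ρ (grp4 cij cik h0 h1 h2) v
  · intro v _
    rw [← act_mul ρ _ γ, ← act_mul ρ _ _ v, ← act_mul, grp3 h0 h1, ← grp1 cij (xP_cube j)]
    simp only [mul_assoc]
  · intro v _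
    rw [← act_mul ρ _ γ, ← act_mul ρ _ _ v, ← act_mul, h0]
    simp only [mul_assoc, mul_inv_cancel_left]

end Act

end Cfsg.Agent.H224.E8
end

-- part: H224/E8Fus
section
/-!
# Part T3b of S2654: weight spaces and fusion (helper224)
-/

set_option autoImplicit false

namespace Cfsg.Agent.H224.E8

open Module

variable {K V : Type*} [Field K] [AddCommGroup V] [Module K V]

/-- The common eigenspace of a family of elements. -/
def jeig (ρ : ↥P18 →* Module.End K V) {J : Type} (q : J → ↥P18) (z : J → K) : Submodule K V where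
  carrier := {v | ∀ j, ρ (q j) v = z j • v}
  add_mem' := by
    intro a b ha hb j
    rw [map_add, ha j, hb j, smul_add]
  zero_mem' := by
    intro j
    rw [map_zero, smul_zero]
  smul_mem' := by
    intro r a ha j
    rw [map_smul, ha j, smul_comm]

theorem jeig_fus {ρ : ↥P18 →* Module.End K V} (hfus : Fus ρ) {J : Type} (a : ↥(alternatingGroup (Fin 18)))
    (q q' : J → ↥P18) (z : J → K) (h : ∀ j, a * (q j : ↥(alternatingGroup (Fin 18))) * a⁻¹ = q' j) :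
    finrank K (jeig ρ q z) = finrank K (jeig ρ q' z) := by
  set Q : Subgroup ↥(alternatingGroup (Fin 18)) :=
    Subgroup.closure (Set.range fun j => (q j : ↥(alternatingGroup (Fin 18)))) with hQdef
  have hQ : Q ≤ P18 := by
    rw [hQdef, Subgroup.closure_le]
    rintro _ ⟨j, rfl⟩
    exact (q j).2
  have hQ' : ∀ g ∈ Q, a * g * a⁻¹ ∈ P18 := by
    have : Q ≤ P18.comap (MulAut.conj a).toMonoidHom := by
      rw [hQdef, Subgroup.closure_le]
      rintro _ ⟨j, rfl⟩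
      show a * _ * a⁻¹ ∈ P18
      rw [h j]
      exact (q' j).2
    exact fun g hg => this hg
  obtain ⟨f, hf⟩ := hfus a Q hQ hQ'
  have hf' : ∀ j (v : V), f (ρ (q j) v) = ρ (q' j) (f v) := by
    intro j v
    have h1 := hf (q j) (Subgroup.subset_closure ⟨j, rfl⟩) v
    have h2 : (⟨a * (q j : ↥(alternatingGroup (Fin 18))) * a⁻¹,
      hQ' _ (Subgroup.subset_closure ⟨j, rfl⟩)⟩ : ↥P18) = q' j := Subtype.ext (h j)
    rw [h2] at h1
    exact h1
  have hmap : (jeig ρ q z).map (f : V →ₗ[K] V) = jeig ρ q' z := by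
    apply le_antisymm
    · rintro _ ⟨v, hv, rfl⟩ j
      show ρ (q' j) (f v) = z j • f v
      rw [← hf', hv j, map_smul]
    · intro v hv
      refine ⟨f.symm v, fun j => ?_, f.apply_symm_apply v⟩
      apply f.injective
      rw [hf', map_smul, f.apply_symm_apply, hv j]
  rw [← hmap]
  exact (LinearEquiv.finrank_map_eq f _).symm

variable {w : K}

/-- Weight spaces, with weights in `ℕ`. -/
def WN (w : K) (ρ : ↥P18 →* Module.End K V) (m : Fin 6 → ℕ) : Submodule K V :=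
  jeig ρ xP fun i => w ^ m i

theorem mem_WN {ρ : ↥P18 →* Module.End K V} {m : Fin 6 → ℕ} {v : V} :
    v ∈ WN w ρ m ↔ ∀ i, ρ (xP i) v = w ^ m i • v := Iff.rfl

theorem pow_mod (hw : IsPrimitiveRoot w 3) (n : ℕ) : w ^ n = w ^ (n % 3) := by
  conv_lhs => rw [← Nat.div_add_mod n 3, pow_add, pow_mul, w_cube hw, one_pow, one_mul]

theorem pow_congr (hw : IsPrimitiveRoot w 3) {n m : ℕ} (h : n % 3 = m % 3) : w ^ n = w ^ m := by
  rw [pow_mod hw n, pow_mod hw m, h]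

theorem WN_eq_wsp (hw : IsPrimitiveRoot w 3) (ρ : ↥P18 →* Module.End K V) (m : Fin 6 → ℕ) :
    WN w ρ m = wsp w ρ (fun i => (m i : ZMod 3)) := by
  ext v
  rw [mem_WN, mem_wsp]
  refine forall_congr' fun i => ?_
  rw [ZMod.val_natCast, ← pow_mod hw]

/-- The dimension of the eigenspace of `γ` with eigenvalue `z` on a weight space. -/
noncomputable def NN (w : K) (ρ : ↥P18 →* Module.End K V) (γ : ↥P18) (m : Fin 6 → ℕ) (z : K) : ℕ :=
  finrank K (WN w ρ m ⊓ eig (ρ γ) z : Submodule K V)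

theorem pow_act (hw : IsPrimitiveRoot w 3) {ρ : ↥P18 →* Module.End K V} {p : ↥P18} (hp : p ^ 3 = 1) {e : ℕ}
    (he : e = 1 ∨ e = 2) (m : ℕ) (v : V) : ρ (p ^ e) v = w ^ m • v ↔ ρ p v = w ^ (e * m) • v := by
  rcases he with rfl | rfl
  · rw [pow_one, one_mul]
  · rw [sq, act_mul]
    constructor
    · intro h
      have h1 := congrArg (fun u => ρ p u) h
      simp only [act_cube ρ hp, map_smul] at h1
      have h2 : w ^ (2 * m) • v = w ^ (2 * m) • (w ^ m • ρ p v) := congrArg _ h1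
      rw [h2, smul_smul, ← pow_add, pow_congr hw (show (2 * m + m) % 3 = 0 % 3 by omega), pow_zero, one_smul]
    · intro h
      rw [h, map_smul, h, smul_smul, ← pow_add]
      congr 1
      exact pow_congr hw (by omega)

/-- Fusion for `NN`. -/
theorem NN_fus (hw : IsPrimitiveRoot w 3) {ρ : ↥P18 →* Module.End K V} (hfus : Fus ρ)
    (L : List (Fin 18 × Fin 18)) (hL : ∀ p ∈ L, p.1 ≠ p.2) (hL2 : Even L.length) {γ γ' : ↥P18}
    (hγ : sw L * (γ : ↥(alternatingGroup (Fin 18))).1 * (sw L)⁻¹ = (γ' : ↥(alternatingGroup (Fin 18))).1)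
    (π : Fin 6 → Fin 6) (hπs : Function.Surjective π) (ε : Fin 6 → ℕ) (hε : ∀ i, ε i = 1 ∨ ε i = 2)
    (hπ : ∀ i, sw L * xp i * (sw L)⁻¹ = xp (π i) ^ (ε i)) (m m' : Fin 6 → ℕ)
    (hm : ∀ i, m' (π i) % 3 = (ε i * m i) % 3) (z : K) :
    NN w ρ γ m z = NN w ρ γ' m' z := by
  have h1 : (WN w ρ m ⊓ eig (ρ γ) z : Submodule K V) =
      jeig ρ (fun o : Option (Fin 6) => o.elim γ xP) (fun o => o.elim z fun i => w ^ m i) := by
    ext v
    constructor
    · rintro ⟨h1, h2⟩ (_ | i)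
      · exact h2
      · exact h1 i
    · intro h
      exact ⟨fun i => h (some i), h none⟩
  have h2 : (WN w ρ m' ⊓ eig (ρ γ') z : Submodule K V) =
      jeig ρ (fun o : Option (Fin 6) => o.elim γ' fun i => xP (π i) ^ (ε i))
        (fun o => o.elim z fun i => w ^ m i) := by
    ext v
    constructor
    · rintro ⟨h1, h2⟩ (_ | i)
      · exact h2
      · show ρ (xP (π i) ^ (ε i)) v = w ^ m i • v
        rw [pow_act hw (xP_cube _) (hε i), ← pow_congr hw (hm i)]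
        exact h1 (π i)
    · intro h
      refine ⟨fun j => ?_, h none⟩
      obtain ⟨i, rfl⟩ := hπs j
      have h3 : ρ (xP (π i) ^ (ε i)) v = w ^ m i • v := h (some i)
      rw [pow_act hw (xP_cube _) (hε i), ← pow_congr hw (hm i)] at h3
      exact h3
  rw [NN, NN, h1, h2]
  refine jeig_fus hfus ⟨sw L, sw_mem L hL hL2⟩ _ _ _ ?_
  rintro (_ | i)
  · exact Subtype.ext hγ
  · apply Subtype.ext
    show sw L * xp i * (sw L)⁻¹ = _
    rw [hπ i]
    rfl

/-- Fusion for single elements. -/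
theorem eig_fus {ρ : ↥P18 →* Module.End K V} (hfus : Fus ρ)
    (L : List (Fin 18 × Fin 18)) (hL : ∀ p ∈ L, p.1 ≠ p.2) (hL2 : Even L.length) {γ γ' : ↥P18}
    (hγ : sw L * (γ : ↥(alternatingGroup (Fin 18))).1 * (sw L)⁻¹ = (γ' : ↥(alternatingGroup (Fin 18))).1)
    (z : K) : finrank K (⊤ ⊓ eig (ρ γ) z : Submodule K V) = finrank K (⊤ ⊓ eig (ρ γ') z : Submodule K V) := by
  have h1 : ∀ γ : ↥P18, (⊤ ⊓ eig (ρ γ) z : Submodule K V) = jeig ρ (fun _ : Unit => γ) (fun _ => z) := by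
    intro γ
    ext v
    exact ⟨fun h _ => h.2, fun h => ⟨trivial, h ()⟩⟩
  rw [h1, h1]
  exact jeig_fus hfus ⟨sw L, sw_mem L hL hL2⟩ _ _ _ (fun _ => Subtype.ext hγ)

theorem dd_fus {ρ : ↥P18 →* Module.End K V} (hfus : Fus ρ)
    (L : List (Fin 18 × Fin 18)) (hL : ∀ p ∈ L, p.1 ≠ p.2) (hL2 : Even L.length) {γ γ' : ↥P18}
    (hγ : sw L * (γ : ↥(alternatingGroup (Fin 18))).1 * (sw L)⁻¹ = (γ' : ↥(alternatingGroup (Fin 18))).1) :
    dd w ⊤ (ρ γ) = dd w ⊤ (ρ γ') := by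
  rw [dd, dd, eig_fus hfus L hL hL2 hγ, eig_fus hfus L hL hL2 hγ]

/-- The inverse of `γ`. -/
theorem NN_inv (hw : IsPrimitiveRoot w 3) (ρ : ↥P18 →* Module.End K V) (γ : ↥P18) (m : Fin 6 → ℕ) (k : ℕ) :
    NN w ρ γ⁻¹ m (w ^ k) = NN w ρ γ m (w ^ (2 * k)) := by
  have key : (eig (ρ γ⁻¹) (w ^ k) : Submodule K V) = eig (ρ γ) (w ^ (2 * k)) := by
   ext v
   show ρ γ⁻¹ v = w ^ k • v ↔ ρ γ v = w ^ (2 * k) • v
   constructor
   · intro h
     have h1 := congrArg (ρ γ) h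
     rw [act_inv', map_smul] at h1
     have h2 : w ^ (2 * k) • v = w ^ (2 * k) • (w ^ k • ρ γ v) := congrArg _ h1
     rw [h2, smul_smul, ← pow_add, pow_congr hw (show (2 * k + k) % 3 = 0 % 3 by omega), pow_zero, one_smul]
   · intro h
     have h1 := congrArg (ρ γ⁻¹) h
     rw [act_inv, map_smul] at h1
     have h2 : w ^ k • v = w ^ k • (w ^ (2 * k) • ρ γ⁻¹ v) := congrArg _ h1
     rw [h2, smul_smul, ← pow_add, pow_congr hw (show (k + 2 * k) % 3 = 0 % 3 by omega), pow_zero, one_smul]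
  rw [NN, NN, key]

theorem NN_congr (hw : IsPrimitiveRoot w 3) (ρ : ↥P18 →* Module.End K V) (γ : ↥P18) (m : Fin 6 → ℕ) {k l : ℕ}
    (h : k % 3 = l % 3) : NN w ρ γ m (w ^ k) = NN w ρ γ m (w ^ l) := by
  rw [pow_congr hw h]

/-! ### Evaluation of `dd` on the whole space -/

variable [FiniteDimensional K V]

omit [FiniteDimensional K V] in
theorem dd_shift (hw : IsPrimitiveRoot w 3) {ρ : ↥P18 →* Module.End K V} {g e : ↥P18} {m : Fin 6 → ℕ} {s : ℕ}
    (he : ∀ v ∈ WN w ρ m, ρ e v = w ^ s • v) :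
    dd w (WN w ρ m) (ρ (g * e)) = (NN w ρ g m (w ^ (2 * s)) : ℤ) - NN w ρ g m (w ^ (2 * s + 1)) := by
  have key : ∀ k : ℕ, (WN w ρ m ⊓ eig (ρ (g * e)) (w ^ k) : Submodule K V) =
      WN w ρ m ⊓ eig (ρ g) (w ^ (2 * s + k)) := by
    intro k
    ext v
    constructor
    · rintro ⟨h1, h2⟩
      refine ⟨h1, ?_⟩
      have h3 : ρ (g * e) v = w ^ k • v := h2
      rw [act_mul, he v h1, map_smul] at h3
      show ρ g v = w ^ (2 * s + k) • v
      have h4 : w ^ (2 * s) • (w ^ s • ρ g v) = w ^ (2 * s) • (w ^ k • v) := congrArg _ h3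
      rw [smul_smul, ← pow_add, pow_congr hw (show (2 * s + s) % 3 = 0 % 3 by omega), pow_zero, one_smul,
        smul_smul, ← pow_add] at h4
      exact h4
    · rintro ⟨h1, h2⟩
      refine ⟨h1, ?_⟩
      have h3 : ρ g v = w ^ (2 * s + k) • v := h2
      show ρ (g * e) v = w ^ k • v
      rw [act_mul, he v h1, map_smul, h3, smul_smul, ← pow_add,
        pow_congr hw (show (s + (2 * s + k)) % 3 = k % 3 by omega)]
  have h0 := key 0
  have h1 := key 1
  rw [pow_zero, add_zero] at h0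
  rw [pow_one] at h1
  rw [dd, h0, h1]
  rfl

omit [FiniteDimensional K V] in
theorem inf_inv {ρ : ↥P18 →* Module.End K V} {l l' : Fin 6} {z : K} {S : Submodule K V}
    (hS : ∀ v ∈ S, ρ (xP l) v ∈ S) :
    ∀ v ∈ (S ⊓ eig (ρ (xP l')) z : Submodule K V), ρ (xP l) v ∈ (S ⊓ eig (ρ (xP l')) z : Submodule K V) := by
  rintro v ⟨h1, h2⟩
  refine ⟨hS v h1, ?_⟩
  show ρ (xP l') (ρ (xP l) v) = z • ρ (xP l) v
  rw [act_eq ρ (xP_comm l' l) v, show ρ (xP l') v = z • v from h2, map_smul]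

/-- One block. -/
theorem dd_one (hw : IsPrimitiveRoot w 3) {ρ : ↥P18 →* Module.End K V} {γ : ↥P18} (h0 : γ * xP 0 = xP 1 * γ)
    (h1 : γ * xP 1 = xP 2 * γ) (h2 : γ * xP 2 = xP 0 * γ) (h3 : γ * xP 3 = xP 3 * γ) (h4 : γ * xP 4 = xP 4 * γ)
    (h5 : γ * xP 5 = xP 5 * γ) :
    dd w ⊤ (ρ γ) = ∑ t ∈ Finset.range 3, ∑ a ∈ Finset.range 3, ∑ b ∈ Finset.range 3, ∑ e ∈ Finset.range 3,
      dd w (WN w ρ ![t, t, t, a, b, e]) (ρ γ) := by
  have hcomm : ∀ (i j : Fin 6) (v : V), ρ (xP i) (ρ (xP j) v) = ρ (xP j) (ρ (xP i) v) := fun i j v =>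
    act_eq ρ (xP_comm i j) v
  rw [dd_block ρ hw (S := ⊤) h0 h1 h2 (fun _ _ => trivial) (fun _ _ => trivial) (fun _ _ => trivial) (fun _ _ => trivial)]
  have hinv : ∀ l : Fin 6, ∀ v ∈ (⊤ ⊓ SE ρ 0 1 2 : Submodule K V), ρ (xP l) v ∈ (⊤ ⊓ SE ρ 0 1 2 : Submodule K V) := by
    rintro l v ⟨-, hv1, hv2⟩
    exact ⟨trivial, by rw [hcomm 1 l, hv1, hcomm l 0], by rw [hcomm 2 l, hv2, hcomm l 0]⟩
  have hg : ∀ v ∈ (⊤ ⊓ SE ρ 0 1 2 : Submodule K V), ρ γ v ∈ (⊤ ⊓ SE ρ 0 1 2 : Submodule K V) := by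
    rintro v ⟨-, hv1, hv2⟩
    have e0 : ρ (xP 1) (ρ γ v) = ρ γ (ρ (xP 0) v) := (act_eq ρ h0 v).symm
    have e1 : ρ (xP 2) (ρ γ v) = ρ γ (ρ (xP 1) v) := (act_eq ρ h1 v).symm
    have e2 : ρ (xP 0) (ρ γ v) = ρ γ (ρ (xP 2) v) := (act_eq ρ h2 v).symm
    exact ⟨trivial, by rw [e0, e2, hv2], by rw [e1, e2, hv1, hv2]⟩
  rw [dd_split hw (X := ρ (xP 0)) (hinv 0) (fun v _ => act_cube ρ (xP_cube 0) v)
    (fun v hv => by rw [act_eq ρ h0 v, (hg v hv).2.1])]
  refine Finset.sum_congr rfl fun t _ => ?_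
  rw [dd_split hw (X := ρ (xP 3)) (inf_inv (hinv 3)) (fun v _ => act_cube ρ (xP_cube 3) v)
    (fun v _ => act_eq ρ h3 v)]
  refine Finset.sum_congr rfl fun a _ => ?_
  rw [dd_split hw (X := ρ (xP 4)) (inf_inv (inf_inv (hinv 4))) (fun v _ => act_cube ρ (xP_cube 4) v)
    (fun v _ => act_eq ρ h4 v)]
  refine Finset.sum_congr rfl fun b _ => ?_
  rw [dd_split hw (X := ρ (xP 5)) (inf_inv (inf_inv (inf_inv (hinv 5)))) (fun v _ => act_cube ρ (xP_cube 5) v)
    (fun v _ => act_eq ρ h5 v)]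
  refine Finset.sum_congr rfl fun e _ => ?_
  congr 1
  ext v
  constructor
  · rintro ⟨⟨⟨⟨⟨-, hv1, hv2⟩, hv0⟩, hv3⟩, hv4⟩, hv5⟩
    have k0 : ρ (xP 0) v = w ^ t • v := hv0
    intro i
    fin_cases i
    · exact k0
    · exact hv1.trans k0
    · exact hv2.trans k0
    · exact hv3
    · exact hv4
    · exact hv5
  · intro hv
    have k0 : ρ (xP 0) v = w ^ t • v := hv 0
    have k1 : ρ (xP 1) v = w ^ t • v := hv 1
    have k2 : ρ (xP 2) v = w ^ t • v := hv 2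
    exact ⟨⟨⟨⟨⟨trivial, k1.trans k0.symm, k2.trans k0.symm⟩, hv 0⟩, hv 3⟩, hv 4⟩, hv 5⟩

/-- Two blocks. -/
theorem dd_two (hw : IsPrimitiveRoot w 3) {ρ : ↥P18 →* Module.End K V} {γ : ↥P18} (h0 : γ * xP 0 = xP 1 * γ)
    (h1 : γ * xP 1 = xP 2 * γ) (h2 : γ * xP 2 = xP 0 * γ) (h3 : γ * xP 3 = xP 4 * γ) (h4 : γ * xP 4 = xP 5 * γ)
    (h5 : γ * xP 5 = xP 3 * γ) :
    dd w ⊤ (ρ γ) = ∑ t ∈ Finset.range 3, ∑ a ∈ Finset.range 3, dd w (WN w ρ ![t, t, t, a, a, a]) (ρ γ) := by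
  have hcomm : ∀ (i j : Fin 6) (v : V), ρ (xP i) (ρ (xP j) v) = ρ (xP j) (ρ (xP i) v) := fun i j v =>
    act_eq ρ (xP_comm i j) v
  have hinv : ∀ l : Fin 6, ∀ v ∈ (⊤ ⊓ SE ρ 0 1 2 : Submodule K V), ρ (xP l) v ∈ (⊤ ⊓ SE ρ 0 1 2 : Submodule K V) := by
    rintro l v ⟨-, hv1, hv2⟩
    exact ⟨trivial, by rw [hcomm 1 l, hv1, hcomm l 0], by rw [hcomm 2 l, hv2, hcomm l 0]⟩
  have hinv3 : ∀ v ∈ (⊤ ⊓ SE ρ 0 1 2 : Submodule K V), ρ (xP 3)⁻¹ v ∈ (⊤ ⊓ SE ρ 0 1 2 : Submodule K V) := by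
    intro v hv
    have h6 : (xP 3)⁻¹ = xP 3 * xP 3 := by
      rw [inv_eq_iff_mul_eq_one, ← mul_assoc, ← sq, ← pow_succ, xP_cube]
    rw [h6, act_mul]
    exact hinv 3 _ (hinv 3 v hv)
  rw [dd_block ρ hw (S := ⊤) h0 h1 h2 (fun _ _ => trivial) (fun _ _ => trivial) (fun _ _ => trivial) (fun _ _ => trivial),
    dd_block ρ hw h3 h4 h5 (hinv 3) hinv3 (hinv 4) (hinv 5)]
  have hinv' : ∀ l : Fin 6, ∀ v ∈ ((⊤ ⊓ SE ρ 0 1 2) ⊓ SE ρ 3 4 5 : Submodule K V),
      ρ (xP l) v ∈ ((⊤ ⊓ SE ρ 0 1 2) ⊓ SE ρ 3 4 5 : Submodule K V) := by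
    rintro l v ⟨hv, hv4, hv5⟩
    exact ⟨hinv l v hv, by rw [hcomm 4 l, hv4, hcomm l 3], by rw [hcomm 5 l, hv5, hcomm l 3]⟩
  have hg : ∀ v ∈ ((⊤ ⊓ SE ρ 0 1 2) ⊓ SE ρ 3 4 5 : Submodule K V),
      ρ γ v ∈ ((⊤ ⊓ SE ρ 0 1 2) ⊓ SE ρ 3 4 5 : Submodule K V) := by
    rintro v ⟨⟨-, hv1, hv2⟩, hv4, hv5⟩
    have e0 : ρ (xP 1) (ρ γ v) = ρ γ (ρ (xP 0) v) := (act_eq ρ h0 v).symm
    have e1 : ρ (xP 2) (ρ γ v) = ρ γ (ρ (xP 1) v) := (act_eq ρ h1 v).symm
    have e2 : ρ (xP 0) (ρ γ v) = ρ γ (ρ (xP 2) v) := (act_eq ρ h2 v).symm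
    have e3 : ρ (xP 4) (ρ γ v) = ρ γ (ρ (xP 3) v) := (act_eq ρ h3 v).symm
    have e4 : ρ (xP 5) (ρ γ v) = ρ γ (ρ (xP 4) v) := (act_eq ρ h4 v).symm
    have e5 : ρ (xP 3) (ρ γ v) = ρ γ (ρ (xP 5) v) := (act_eq ρ h5 v).symm
    exact ⟨⟨trivial, by rw [e0, e2, hv2], by rw [e1, e2, hv1, hv2]⟩, by rw [e3, e5, hv5],
      by rw [e4, e5, hv4, hv5]⟩
  rw [dd_split hw (X := ρ (xP 0)) (hinv' 0) (fun v _ => act_cube ρ (xP_cube 0) v)
    (fun v hv => by rw [act_eq ρ h0 v, (hg v hv).1.2.1])]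
  refine Finset.sum_congr rfl fun t _ => ?_
  rw [dd_split hw (X := ρ (xP 3)) (inf_inv (hinv' 3)) (fun v _ => act_cube ρ (xP_cube 3) v)
    (fun v hv => by rw [act_eq ρ h3 v, (hg v hv.1).2.1])]
  refine Finset.sum_congr rfl fun a _ => ?_
  congr 1
  ext v
  constructor
  · rintro ⟨⟨⟨⟨-, hv1, hv2⟩, hv4, hv5⟩, hv0⟩, hv3⟩
    have k0 : ρ (xP 0) v = w ^ t • v := hv0
    have k3 : ρ (xP 3) v = w ^ a • v := hv3
    intro i
    fin_cases i
    · exact k0
    · exact hv1.trans k0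
    · exact hv2.trans k0
    · exact k3
    · exact hv4.trans k3
    · exact hv5.trans k3
  · intro hv
    have k0 : ρ (xP 0) v = w ^ t • v := hv 0
    have k1 : ρ (xP 1) v = w ^ t • v := hv 1
    have k2 : ρ (xP 2) v = w ^ t • v := hv 2
    have k3 : ρ (xP 3) v = w ^ a • v := hv 3
    have k4 : ρ (xP 4) v = w ^ a • v := hv 4
    have k5 : ρ (xP 5) v = w ^ a • v := hv 5
    exact ⟨⟨⟨⟨trivial, k1.trans k0.symm, k2.trans k0.symm⟩, k4.trans k3.symm, k5.trans k3.symm⟩, hv 0⟩, hv 3⟩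

end Cfsg.Agent.H224.E8
end

-- part: H224/E8Facts
section
/-!
# Part T3b of S2654: the fusion facts (helper224)
-/

set_option autoImplicit false

namespace Cfsg.Agent.H224.E8

open Module

variable {K V : Type*} [Field K] [AddCommGroup V] [Module K V] {w : K}

/-! ### The fusion facts -/

theorem f_one (hw : IsPrimitiveRoot w 3) {ρ : ↥P18 →* Module.End K V} (hfus : Fus ρ) {a b e : ℕ}
    (ha : a = 1 ∨ a = 2) (hb : b = 1 ∨ b = 2) (he : e = 1 ∨ e = 2) (z : K) :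
    NN w ρ cP ![1, 1, 1, 1, 1, 1] z = NN w ρ cP ![1, 1, 1, a, b, e] z := by
  rcases ha with rfl | rfl <;> rcases hb with rfl | rfl <;> rcases he with rfl | rfl
  · rfl
  · exact NN_fus hw hfus [(16, 17), (12, 15), (13, 16), (14, 17)] (by decide +kernel) (by decide)
      (by decide +kernel) ![0, 1, 2, 3, 5, 4] (by decide) ![1, 1, 1, 1, 2, 1] (by decide) (by decide +kernel)
      _ _ (by decide) z
  · exact NN_fus hw hfus [(13, 14), (12, 15), (13, 16), (14, 17)] (by decide +kernel) (by decide)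
      (by decide +kernel) ![0, 1, 2, 3, 5, 4] (by decide) ![1, 1, 1, 1, 1, 2] (by decide) (by decide +kernel)
      _ _ (by decide) z
  · exact NN_fus hw hfus [(13, 14), (16, 17)] (by decide +kernel) (by decide)
      (by decide +kernel) id (by decide) ![1, 1, 1, 1, 2, 2] (by decide) (by decide +kernel)
      _ _ (by decide) z
  · exact NN_fus hw hfus [(10, 11), (12, 15), (13, 16), (14, 17)] (by decide +kernel) (by decide)
      (by decide +kernel) ![0, 1, 2, 3, 5, 4] (by decide) ![1, 1, 1, 2, 1, 1] (by decide) (by decide +kernel)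
      _ _ (by decide) z
  · exact NN_fus hw hfus [(10, 11), (16, 17)] (by decide +kernel) (by decide)
      (by decide +kernel) id (by decide) ![1, 1, 1, 2, 1, 2] (by decide) (by decide +kernel)
      _ _ (by decide) z
  · exact NN_fus hw hfus [(10, 11), (13, 14)] (by decide +kernel) (by decide)
      (by decide +kernel) id (by decide) ![1, 1, 1, 2, 2, 1] (by decide) (by decide +kernel)
      _ _ (by decide) z
  · exact NN_fus hw hfus [(10, 11), (13, 14), (16, 17), (12, 15), (13, 16), (14, 17)] (by decide +kernel)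
      (by decide) (by decide +kernel) ![0, 1, 2, 3, 5, 4] (by decide) ![1, 1, 1, 2, 2, 2] (by decide)
      (by decide +kernel) _ _ (by decide) z

theorem f_two (hw : IsPrimitiveRoot w 3) {ρ : ↥P18 →* Module.End K V} (hfus : Fus ρ) (a b e k : ℕ) :
    NN w ρ cP ![1, 1, 1, a, b, e] (w ^ (2 * k)) = NN w ρ cP ![2, 2, 2, a, b, e] (w ^ k) := by
  rw [NN_fus hw hfus [(3, 8), (6, 5), (1, 2), (4, 7)] (by decide +kernel) (by decide) (γ' := cP⁻¹)
      (by decide +kernel) ![0, 2, 1, 3, 4, 5] (by decide) ![2, 2, 2, 1, 1, 1] (by decide) (by decide +kernel)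
      _ ![2, 2, 2, a, b, e] (by intro i; fin_cases i <;> simp) _, NN_inv hw]
  exact NN_congr hw _ _ _ (by omega)

theorem f_six (hw : IsPrimitiveRoot w 3) {ρ : ↥P18 →* Module.End K V} (hfus : Fus ρ) (z : K) :
    NN w ρ cP ![1, 1, 1, 1, 1, 1] z = NN w ρ dP ![1, 1, 1, 1, 1, 1] z :=
  NN_fus hw hfus [(0, 3), (1, 4), (2, 5), (0, 9), (1, 10), (2, 11), (3, 12), (4, 13), (5, 14), (6, 15), (7, 16),
      (8, 17)] (by decide +kernel) (by decide) (by decide +kernel) ![3, 4, 5, 1, 0, 2] (by decide)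
      ![1, 1, 1, 1, 1, 1] (by decide) (by decide +kernel) _ _ (by decide) z

theorem f_six' (hw : IsPrimitiveRoot w 3) {ρ : ↥P18 →* Module.End K V} (hfus : Fus ρ) (k : ℕ) :
    NN w ρ dP ![1, 1, 1, 1, 1, 1] (w ^ (2 * k)) = NN w ρ dP ![1, 1, 1, 2, 2, 2] (w ^ k) := by
  rw [NN_fus hw hfus [(12, 17), (15, 14), (10, 11), (13, 16)] (by decide +kernel) (by decide) (γ' := dP⁻¹)
      (by decide +kernel) ![0, 1, 2, 3, 5, 4] (by decide) ![1, 1, 1, 2, 2, 2] (by decide) (by decide +kernel)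
      _ ![1, 1, 1, 2, 2, 2] (by decide) _, NN_inv hw]
  exact NN_congr hw _ _ _ (by omega)

theorem f_seven (hw : IsPrimitiveRoot w 3) {ρ : ↥P18 →* Module.End K V} (hfus : Fus ρ) (k : ℕ) :
    NN w ρ (cP * dP) ![1, 1, 1, 1, 1, 1] (w ^ (2 * k)) = NN w ρ (cP * dP) ![2, 2, 2, 2, 2, 2] (w ^ k) := by
  rw [NN_fus hw hfus [(3, 8), (6, 5), (1, 2), (4, 7), (12, 17), (15, 14), (10, 11), (13, 16)] (by decide +kernel)
      (by decide) (γ' := (cP * dP)⁻¹)
      (by decide +kernel) ![0, 2, 1, 3, 5, 4] (by decide) ![2, 2, 2, 2, 2, 2] (by decide) (by decide +kernel)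
      _ ![2, 2, 2, 2, 2, 2] (by decide) _, NN_inv hw]
  exact NN_congr hw _ _ _ (by omega)

theorem f_seven' (hw : IsPrimitiveRoot w 3) {ρ : ↥P18 →* Module.End K V} (hfus : Fus ρ) (k : ℕ) :
    NN w ρ (cP * dP) ![1, 1, 1, 2, 2, 2] (w ^ (2 * k)) = NN w ρ (cP * dP) ![2, 2, 2, 1, 1, 1] (w ^ k) := by
  rw [NN_fus hw hfus [(3, 8), (6, 5), (1, 2), (4, 7), (12, 17), (15, 14), (10, 11), (13, 16)] (by decide +kernel)
      (by decide) (γ' := (cP * dP)⁻¹)
      (by decide +kernel) ![0, 2, 1, 3, 5, 4] (by decide) ![2, 2, 2, 2, 2, 2] (by decide) (by decide +kernel)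
      _ ![2, 2, 2, 1, 1, 1] (by decide) _, NN_inv hw]
  exact NN_congr hw _ _ _ (by omega)

theorem a_one {ρ : ↥P18 →* Module.End K V} (hfus : Fus ρ) :
    dd w ⊤ (ρ (cP * 1)) = dd w ⊤ (ρ (cP * xP 0)) :=
  dd_fus hfus [(1, 2), (3, 4), (6, 7), (9, 10)] (by decide +kernel) (by decide) (by decide +kernel)

theorem a_two {ρ : ↥P18 →* Module.End K V} (hfus : Fus ρ) :
    dd w ⊤ (ρ (cP * dP * 1)) = dd w ⊤ (ρ (cP * dP * xP 3)) :=
  dd_fus hfus [(0, 9), (1, 11), (11, 2), (2, 10), (3, 13), (13, 4), (4, 12), (5, 14), (6, 16), (16, 7), (7, 15),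
    (8, 17)] (by decide +kernel) (by decide) (by decide +kernel)

theorem a_three {ρ : ↥P18 →* Module.End K V} (hfus : Fus ρ) :
    dd w ⊤ (ρ (cP * dP * (xP 0 * xP 0 * (xP 3 * xP 3)))) =
      dd w ⊤ (ρ (cP * (xP 0 * xP 0 * (xP 3 * xP 4 * xP 5)))) :=
  dd_fus hfus [(0, 1), (3, 5), (6, 8), (10, 12), (12, 13), (13, 16), (16, 17), (17, 11), (11, 15), (15, 14)]
    (by decide +kernel) (by decide) (by decide +kernel)

theorem a_four {ρ : ↥P18 →* Module.End K V} (hfus : Fus ρ) :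
    dd w ⊤ (ρ (cP * dP * (xP 3 * xP 3))) = dd w ⊤ (ρ (cP * (xP 3 * xP 4 * xP 5))) :=
  dd_fus hfus [(9, 12), (12, 10), (11, 15), (13, 16), (16, 17), (17, 14)]
    (by decide +kernel) (by decide) (by decide +kernel)

end Cfsg.Agent.H224.E8
end

-- part: H224/E8T3b
section
/-!
# Part T3b of S2654: the contradiction (helper224)
-/

set_option autoImplicit false

namespace Cfsg.Agent.H224.E8

open Module

variable {K V : Type*} [Field K] [AddCommGroup V] [Module K V] {w : K}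

/-! ### Evaluation -/

theorem cx (i : Fin 6) : cP * xP i = xP (sc i) * cP := by
  have := c_x i
  rw [mul_inv_eq_iff_eq_mul] at this
  exact Subtype.ext this

theorem dx (i : Fin 6) : dP * xP i = xP (sd i) * dP := by
  have := d_x i
  rw [mul_inv_eq_iff_eq_mul] at this
  exact Subtype.ext this

theorem cd_comm' : cP * dP = dP * cP := Subtype.ext cd_comm

theorem c3P : cP * cP * cP = xP 0 * xP 1 * xP 2 := Subtype.ext (by
    have := c_cube
    rw [pow_succ, sq] at this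
    exact this)

theorem d3P : dP * dP * dP = xP 3 * xP 4 * xP 5 := Subtype.ext (by
    have := d_cube
    rw [pow_succ, sq] at this
    exact this)

theorem cc (e : ↥P18) (he : ∀ i, Commute e (xP i)) (i : Fin 6) : cP * e * xP i = xP (sc i) * (cP * e) := by
  rw [mul_assoc, (he i).eq, ← mul_assoc, cx, mul_assoc]

theorem ccd (e : ↥P18) (he : ∀ i, Commute e (xP i)) (i : Fin 6) :
    cP * dP * e * xP i = xP (sc (sd i)) * (cP * dP * e) := by
  rw [mul_assoc, (he i).eq, ← mul_assoc, mul_assoc cP, dx, ← mul_assoc, cx]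
  simp only [mul_assoc]

attribute [local irreducible] cP dP xP

theorem w_inv_c {ρ : ↥P18 →* Module.End K V} {m : Fin 6 → ℕ} (hm : ∀ j, m (sc j) = m j) :
    ∀ v ∈ WN w ρ m, ρ cP v ∈ WN w ρ m := by
  intro v hv i
  obtain ⟨j, rfl⟩ : ∃ j, sc j = i := by revert i; decide
  have h1 : ρ (xP j) v = w ^ m j • v := hv j
  show ρ (xP (sc j)) (ρ cP v) = w ^ m (sc j) • ρ cP v
  rw [← act_eq ρ (cx j) v, h1, map_smul, hm]

theorem w_inv_d {ρ : ↥P18 →* Module.End K V} {m : Fin 6 → ℕ} (hm : ∀ j, m (sd j) = m j) :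
    ∀ v ∈ WN w ρ m, ρ dP v ∈ WN w ρ m := by
  intro v hv i
  obtain ⟨j, rfl⟩ : ∃ j, sd j = i := by revert i; decide
  have h1 : ρ (xP j) v = w ^ m j • v := hv j
  show ρ (xP (sd j)) (ρ dP v) = w ^ m (sd j) • ρ dP v
  rw [← act_eq ρ (dx j) v, h1, map_smul, hm]

theorem w_c3 (hw : IsPrimitiveRoot w 3) {ρ : ↥P18 →* Module.End K V} {m : Fin 6 → ℕ}
    (hm : (m 0 + m 1 + m 2) % 3 = 0) : ∀ v ∈ WN w ρ m, ρ cP (ρ cP (ρ cP v)) = v := by
  intro v hv
  rw [← act_mul, ← act_mul, c3P, act_mul, act_mul, hv 2, map_smul, hv 1, map_smul, map_smul, hv 0, smul_smul,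
    smul_smul, ← pow_add, ← pow_add, pow_congr hw (show (m 2 + m 1 + m 0) % 3 = 0 % 3 by omega), pow_zero, one_smul]

theorem w_d3 (hw : IsPrimitiveRoot w 3) {ρ : ↥P18 →* Module.End K V} {m : Fin 6 → ℕ}
    (hm : (m 3 + m 4 + m 5) % 3 = 0) : ∀ v ∈ WN w ρ m, ρ dP (ρ dP (ρ dP v)) = v := by
  intro v hv
  rw [← act_mul, ← act_mul, d3P, act_mul, act_mul, hv 5, map_smul, hv 4, map_smul, map_smul, hv 3, smul_smul,
    smul_smul, ← pow_add, ← pow_add, pow_congr hw (show (m 5 + m 4 + m 3) % 3 = 0 % 3 by omega), pow_zero, one_smul]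

/-- Joint multiplicities of `c` and `d`. -/
noncomputable def JJ (w : K) (ρ : ↥P18 →* Module.End K V) (m : Fin 6 → ℕ) (i j : ℕ) : ℕ :=
  finrank K (((WN w ρ m ⊓ eig (ρ cP) (w ^ i)) ⊓ eig (ρ dP) (w ^ j)) : Submodule K V)

theorem JJ_congr (hw : IsPrimitiveRoot w 3) (ρ : ↥P18 →* Module.End K V) (m : Fin 6 → ℕ) (i : ℕ) {j j' : ℕ}
    (h : j % 3 = j' % 3) : JJ w ρ m i j = JJ w ρ m i j' := by
  rw [JJ, JJ, pow_congr hw h]

section Fin

variable [FiniteDimensional K V]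

theorem sum_c (hw : IsPrimitiveRoot w 3) {ρ : ↥P18 →* Module.End K V} {m : Fin 6 → ℕ}
    (hm : ∀ j, m (sd j) = m j) (hm3 : (m 3 + m 4 + m 5) % 3 = 0) (i : ℕ) :
    NN w ρ cP m (w ^ i) = ∑ j ∈ Finset.range 3, JJ w ρ m i j := by
  rw [NN, split3 hw (X := ρ dP)]
  · rfl
  · rintro v ⟨h1, h2⟩
    refine ⟨w_inv_d hm v h1, ?_⟩
    show ρ cP (ρ dP v) = w ^ i • ρ dP v
    rw [act_eq ρ cd_comm' v, show ρ cP v = w ^ i • v from h2, map_smul]
  · rintro v ⟨h1, -⟩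
    exact w_d3 hw hm3 v h1

theorem sum_d (hw : IsPrimitiveRoot w 3) {ρ : ↥P18 →* Module.End K V} {m : Fin 6 → ℕ}
    (hm : ∀ j, m (sc j) = m j) (hm3 : (m 0 + m 1 + m 2) % 3 = 0) (j : ℕ) :
    NN w ρ dP m (w ^ j) = ∑ i ∈ Finset.range 3, JJ w ρ m i j := by
  rw [NN, split3 hw (X := ρ cP)]
  · refine Finset.sum_congr rfl fun i _ => ?_
    rw [JJ, inf_right_comm]
  · rintro v ⟨h1, h2⟩
    refine ⟨w_inv_c hm v h1, ?_⟩
    show ρ dP (ρ cP v) = w ^ j • ρ cP v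
    rw [← act_eq ρ cd_comm' v, show ρ dP v = w ^ j • v from h2, map_smul]
  · rintro v ⟨h1, -⟩
    exact w_c3 hw hm3 v h1

theorem sum_cd (hw : IsPrimitiveRoot w 3) {ρ : ↥P18 →* Module.End K V} {m : Fin 6 → ℕ}
    (hm : ∀ j, m (sc j) = m j) (hm3 : (m 0 + m 1 + m 2) % 3 = 0) (s : ℕ) :
    NN w ρ (cP * dP) m (w ^ s) = ∑ i ∈ Finset.range 3, JJ w ρ m i (s + 2 * i) := by
  rw [NN, split3 hw (X := ρ cP)]
  · refine Finset.sum_congr rfl fun i _ => ?_
    have key : ((WN w ρ m ⊓ eig (ρ (cP * dP)) (w ^ s)) ⊓ eig (ρ cP) (w ^ i) : Submodule K V) =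
        (WN w ρ m ⊓ eig (ρ cP) (w ^ i)) ⊓ eig (ρ dP) (w ^ (s + 2 * i)) := by
     ext v
     constructor
     · rintro ⟨⟨h1, h2⟩, h3⟩
       refine ⟨⟨h1, h3⟩, ?_⟩
       have h4 : ρ (cP * dP) v = w ^ s • v := h2
       have h5 : ρ cP v = w ^ i • v := h3
       rw [cd_comm', act_mul, h5, map_smul] at h4
       show ρ dP v = w ^ (s + 2 * i) • v
       have h6 : w ^ (2 * i) • (w ^ i • ρ dP v) = w ^ (2 * i) • (w ^ s • v) := congrArg _ h4
       rw [smul_smul, ← pow_add, pow_congr hw (show (2 * i + i) % 3 = 0 % 3 by omega), pow_zero, one_smul,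
         smul_smul, ← pow_add, add_comm] at h6
       exact h6
     · rintro ⟨⟨h1, h2⟩, h3⟩
       refine ⟨⟨h1, ?_⟩, h2⟩
       have h4 : ρ cP v = w ^ i • v := h2
       have h5 : ρ dP v = w ^ (s + 2 * i) • v := h3
       show ρ (cP * dP) v = w ^ s • v
       rw [cd_comm', act_mul, h4, map_smul, h5, smul_smul, ← pow_add,
         pow_congr hw (show (i + (s + 2 * i)) % 3 = s % 3 by omega)]
    rw [key]
    rfl
  · rintro v ⟨h1, h2⟩
    refine ⟨w_inv_c hm v h1, ?_⟩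
    show ρ (cP * dP) (ρ cP v) = w ^ s • ρ cP v
    have h3 : cP * dP * cP = cP * (cP * dP) := by rw [mul_assoc, ← cd_comm']
    rw [act_eq ρ h3 v, show ρ (cP * dP) v = w ^ s • v from h2, map_smul]
  · rintro v ⟨h1, -⟩
    exact w_c3 hw hm3 v h1

theorem one_eval (hw : IsPrimitiveRoot w 3) {ρ : ↥P18 →* Module.End K V} {e0 : ↥P18}
    (he : ∀ i, Commute e0 (xP i)) {s : ℕ → ℕ → ℕ → ℕ → ℕ}
    (hs : ∀ t a b e, ∀ v ∈ WN w ρ ![t, t, t, a, b, e], ρ e0 v = w ^ s t a b e • v) :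
    dd w ⊤ (ρ (cP * e0)) = ∑ t ∈ Finset.range 3, ∑ a ∈ Finset.range 3, ∑ b ∈ Finset.range 3,
      ∑ e ∈ Finset.range 3, ((NN w ρ cP ![t, t, t, a, b, e] (w ^ (2 * s t a b e)) : ℤ) -
        NN w ρ cP ![t, t, t, a, b, e] (w ^ (2 * s t a b e + 1))) := by
  rw [dd_one hw (cc e0 he 0) (cc e0 he 1) (cc e0 he 2) (cc e0 he 3) (cc e0 he 4) (cc e0 he 5)]
  refine Finset.sum_congr rfl fun t _ => Finset.sum_congr rfl fun a _ => Finset.sum_congr rfl fun b _ =>
    Finset.sum_congr rfl fun e _ => ?_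
  exact dd_shift hw (hs t a b e)

theorem two_eval (hw : IsPrimitiveRoot w 3) {ρ : ↥P18 →* Module.End K V} {e0 : ↥P18}
    (he : ∀ i, Commute e0 (xP i)) {s : ℕ → ℕ → ℕ}
    (hs : ∀ t a, ∀ v ∈ WN w ρ ![t, t, t, a, a, a], ρ e0 v = w ^ s t a • v) :
    dd w ⊤ (ρ (cP * dP * e0)) = ∑ t ∈ Finset.range 3, ∑ a ∈ Finset.range 3,
      ((NN w ρ (cP * dP) ![t, t, t, a, a, a] (w ^ (2 * s t a)) : ℤ) -
        NN w ρ (cP * dP) ![t, t, t, a, a, a] (w ^ (2 * s t a + 1))) := by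
  rw [dd_two hw (ccd e0 he 0) (ccd e0 he 1) (ccd e0 he 2) (ccd e0 he 3) (ccd e0 he 4) (ccd e0 he 5)]
  refine Finset.sum_congr rfl fun t _ => Finset.sum_congr rfl fun a _ => ?_
  exact dd_shift hw (hs t a)

end Fin

theorem xP_commute (i j : Fin 6) : Commute (xP i) (xP j) := xP_comm i j

/-- The sums over the weights with a constant non-zero first block. -/
theorem eval_block {g : ℕ → ℤ} {N : ℕ → ℕ → ℕ → ℕ → ℕ → ℤ}
    (H : ∀ t a b e k, (t = 1 ∨ t = 2) → a < 3 → b < 3 → e < 3 →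
      N t a b e k = if a ≠ 0 ∧ b ≠ 0 ∧ e ≠ 0 then g ((t * k) % 3) else 0) (s : ℕ → ℕ → ℕ → ℕ → ℕ) (t : ℕ)
    (ht : t = 1 ∨ t = 2) :
    ∑ a ∈ Finset.range 3, ∑ b ∈ Finset.range 3, ∑ e ∈ Finset.range 3,
      (N t a b e (2 * s t a b e) - N t a b e (2 * s t a b e + 1)) =
    ∑ a ∈ Finset.Ico 1 3, ∑ b ∈ Finset.Ico 1 3, ∑ e ∈ Finset.Ico 1 3,
      (g ((t * (2 * s t a b e)) % 3) - g ((t * (2 * s t a b e + 1)) % 3)) := by
  have hr : Finset.Ico 1 3 ⊆ Finset.range 3 := by decide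
  have hr' : ∀ a ∈ Finset.range 3, a ∉ Finset.Ico 1 3 → a = 0 := by decide
  have hr'' : ∀ a ∈ Finset.Ico 1 3, a ≠ 0 := by decide
  symm
  have h0 : ∀ a ∈ Finset.range 3, ∀ b ∈ Finset.range 3, ∀ e ∈ Finset.range 3, (a = 0 ∨ b = 0 ∨ e = 0) →
      N t a b e (2 * s t a b e) - N t a b e (2 * s t a b e + 1) = 0 := by
    intro a ha b hb e he h
    rw [H t a b e _ ht (Finset.mem_range.1 ha) (Finset.mem_range.1 hb) (Finset.mem_range.1 he),
      H t a b e _ ht (Finset.mem_range.1 ha) (Finset.mem_range.1 hb) (Finset.mem_range.1 he), if_neg (by tauto),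
      if_neg (by tauto), sub_zero]
  rw [← Finset.sum_subset hr (fun a ha ha' => Finset.sum_eq_zero fun b hb => Finset.sum_eq_zero fun e he =>
    h0 a ha b hb e he (Or.inl (hr' a ha ha')))]
  refine Finset.sum_congr rfl fun a ha => ?_
  rw [← Finset.sum_subset hr (fun b hb hb' => Finset.sum_eq_zero fun e he =>
    h0 a (hr ha) b hb e he (Or.inr (Or.inl (hr' b hb hb'))))]
  refine Finset.sum_congr rfl fun b hb => ?_
  rw [← Finset.sum_subset hr (fun e he he' => h0 a (hr ha) b (hr hb) e he (Or.inr (Or.inr (hr' e he he'))))]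
  refine Finset.sum_congr rfl fun e he => ?_
  rw [H t a b e _ ht (Finset.mem_range.1 (hr ha)) (Finset.mem_range.1 (hr hb)) (Finset.mem_range.1 (hr he)),
    H t a b e _ ht (Finset.mem_range.1 (hr ha)) (Finset.mem_range.1 (hr hb)) (Finset.mem_range.1 (hr he)),
    if_pos ⟨hr'' a ha, hr'' b hb, hr'' e he⟩, if_pos ⟨hr'' a ha, hr'' b hb, hr'' e he⟩]

theorem act_comp {ρ : ↥P18 →* Module.End K V} {p q : ↥P18} {a b : ℕ} {v : V} (hp : ρ p v = w ^ a • v)
    (hq : ρ q v = w ^ b • v) : ρ (p * q) v = w ^ (a + b) • v := by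
  rw [act_mul, hq, map_smul, hp, smul_smul, ← pow_add, add_comm]

theorem arith0 {g0 g1 g2 : ℤ} (h0 : 0 ≤ g0) (h1 : 0 ≤ g1) (hg : g0 = g2) (ht : g0 + g1 + g2 = 2) :
    (g0 = 1 ∧ g1 = 0 ∧ g2 = 1) ∨ (g0 = 0 ∧ g1 = 2 ∧ g2 = 0) := by omega

theorem zero3 {a b c : ℤ} (ha : 0 ≤ a) (hb : 0 ≤ b) (hc : 0 ≤ c) (h : a + b + c = 0) : a = 0 ∧ b = 0 ∧ c = 0 := by
  refine ⟨?_, ?_, ?_⟩ <;> linarith

theorem arith1 {u00 u01 u02 u10 u11 u12 u20 u21 u22 : ℤ} {v00 v01 v02 v10 v11 v12 v20 v21 v22 : ℤ}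
    (hu : 0 ≤ u00 ∧ 0 ≤ u01 ∧ 0 ≤ u02 ∧ 0 ≤ u10 ∧ 0 ≤ u11 ∧ 0 ≤ u12 ∧ 0 ≤ u20 ∧ 0 ≤ u21 ∧ 0 ≤ u22)
    (hv : 0 ≤ v00 ∧ 0 ≤ v01 ∧ 0 ≤ v02 ∧ 0 ≤ v10 ∧ 0 ≤ v11 ∧ 0 ≤ v12 ∧ 0 ≤ v20 ∧ 0 ≤ v21 ∧ 0 ≤ v22)
    {g0 g1 g2 G0 G1 G2 H0 H1 H2 : ℤ} (hg : g0 = g2) (ht : g0 + g1 + g2 = 2)
    (a0 : G0 = u00 + u12 + u21) (a1 : G1 = u01 + u10 + u22) (a2 : G2 = u02 + u11 + u20)
    (b0 : H0 = v00 + v12 + v21) (b1 : H1 = v01 + v10 + v22) (b2 : H2 = v02 + v11 + v20)
    (c0 : g0 = u00 + u01 + u02) (c1 : g1 = u10 + u11 + u12) (c2 : g2 = u20 + u21 + u22)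
    (d0 : g0 = u00 + u10 + u20) (d1 : g1 = u01 + u11 + u21) (d2 : g2 = u02 + u12 + u22)
    (e0 : g0 = v00 + v01 + v02) (e1 : g1 = v10 + v11 + v12) (e2 : g2 = v20 + v21 + v22)
    (f0 : g0 = v00 + v10 + v20) (f1 : g2 = v01 + v11 + v21) (f2 : g1 = v02 + v12 + v22)
    (h1 : G0 - G2 + (H0 - H1) = 0) (h2 : G2 - G1 + (H0 - H2) = - (g1 - g0)) : False := by
  obtain ⟨x1, x2, x3, x4, x5, x6, x7, x8, x9⟩ := hu
  obtain ⟨y1, y2, y3, y4, y5, y6, y7, y8, y9⟩ := hv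
  have hcases : (g0 = 1 ∧ g1 = 0 ∧ g2 = 1) ∨ (g0 = 0 ∧ g1 = 2 ∧ g2 = 0) :=
    arith0 (by linarith) (by linarith) hg ht
  rcases hcases with ⟨z0, z1, z2⟩ | ⟨z0, z1, z2⟩
  · obtain ⟨w1, w2, w3⟩ := zero3 x4 x5 x6 (c1.symm.trans z1)
    obtain ⟨w4, -, w5⟩ := zero3 x2 x5 x8 (d1.symm.trans z1)
    obtain ⟨t1, t2, t3⟩ := zero3 y4 y5 y6 (e1.symm.trans z1)
    obtain ⟨t4, -, t5⟩ := zero3 y3 y6 y9 (f2.symm.trans z1)
    have q1 : 2 * u00 = 1 := by linarith
    clear * - q1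
    omega
  · obtain ⟨w1, w2, w3⟩ := zero3 x1 x2 x3 (c0.symm.trans z0)
    obtain ⟨w5, w8, w7⟩ := zero3 x7 x8 x9 (c2.symm.trans z2)
    obtain ⟨-, w4, -⟩ := zero3 x1 x4 x7 (d0.symm.trans z0)
    obtain ⟨-, w6, -⟩ := zero3 x3 x6 x9 (d2.symm.trans z2)
    obtain ⟨t1, t2, t3⟩ := zero3 y1 y2 y3 (e0.symm.trans z0)
    obtain ⟨t5, t7, t8⟩ := zero3 y7 y8 y9 (e2.symm.trans z2)
    obtain ⟨-, t4, -⟩ := zero3 y1 y4 y7 (f0.symm.trans z0)
    obtain ⟨-, t6, -⟩ := zero3 y2 y5 y8 (f1.symm.trans z2)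
    linarith

section Main

variable [FiniteDimensional K V]

/-- **Part T3b of S2654.** -/
theorem false_of_wsp (hw : IsPrimitiveRoot w 3) (ρ : ↥P18 →* Module.End K V) (hfus : Fus ρ)
    (h345 : ∀ lam, 3 ≤ nz lam → nz lam ≤ 5 → wsp w ρ lam = ⊥)
    (h6 : ∀ lam, nz lam = 6 → Module.finrank K (wsp w ρ lam) = 2) : False := by
  -- the vanishing of the multiplicities
  have hz : ∀ (γ : ↥P18) (m : Fin 6 → ℕ) (z : K), 3 ≤ nz (fun i => (m i : ZMod 3)) →
      nz (fun i => (m i : ZMod 3)) ≤ 5 → NN w ρ γ m z = 0 := by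
    intro γ m z h3 h5
    rw [NN, WN_eq_wsp hw, h345 _ h3 h5, bot_inf_eq, finrank_bot]
  set g : ℕ → ℤ := fun k => (NN w ρ cP ![1, 1, 1, 1, 1, 1] (w ^ k) : ℤ) with hg
  have hsmall : ∀ t a b e : Fin 3, t ≠ 0 → ¬ (a ≠ 0 ∧ b ≠ 0 ∧ e ≠ 0) →
      3 ≤ nz (fun i => ((![(t : ℕ), t, t, a, b, e] i : ℕ) : ZMod 3)) ∧
        nz (fun i => ((![(t : ℕ), t, t, a, b, e] i : ℕ) : ZMod 3)) ≤ 5 := by decide +kernel
  have H : ∀ t a b e k, (t = 1 ∨ t = 2) → a < 3 → b < 3 → e < 3 →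
      (NN w ρ cP ![t, t, t, a, b, e] (w ^ k) : ℤ) = if a ≠ 0 ∧ b ≠ 0 ∧ e ≠ 0 then g ((t * k) % 3) else 0 := by
    intro t a b e k ht ha hb he
    split_ifs with hc
    · have ha' : a = 1 ∨ a = 2 := by omega
      have hb' : b = 1 ∨ b = 2 := by omega
      have he' : e = 1 ∨ e = 2 := by omega
      rw [hg]
      rcases ht with rfl | rfl
      · show (NN w ρ cP _ _ : ℤ) = (NN w ρ cP _ _ : ℤ)
        rw [f_one hw hfus ha' hb' he', Nat.cast_inj]
        exact NN_congr hw _ _ _ (by omega)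
      · show (NN w ρ cP _ _ : ℤ) = (NN w ρ cP _ _ : ℤ)
        rw [← f_two hw hfus, f_one hw hfus ha' hb' he', Nat.cast_inj]
        exact NN_congr hw _ _ _ (by omega)
    · have h1 := hsmall ⟨t, by omega⟩ ⟨a, ha⟩ ⟨b, hb⟩ ⟨e, he⟩ (by
        intro h
        have := Fin.val_eq_of_eq h
        simp at this
        omega) (by
        rintro ⟨h1, h2, h3⟩
        refine hc ⟨fun h => h1 (Fin.ext h), fun h => h2 (Fin.ext h), fun h => h3 (Fin.ext h)⟩)
      rw [hz cP _ _ h1.1 h1.2]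
      rfl
  -- total dimension
  have htot : g 0 + g 1 + g 2 = 2 := by
    have h1 : Module.finrank K (WN w ρ ![1, 1, 1, 1, 1, 1]) = 2 := by
      rw [WN_eq_wsp hw]
      exact h6 _ (by decide +kernel)
    rw [split3 hw (X := ρ cP) (w_inv_c (by decide)) (w_c3 hw (by decide)), Finset.sum_range_succ,
      Finset.sum_range_succ, Finset.sum_range_one] at h1
    have : (NN w ρ cP ![1, 1, 1, 1, 1, 1] (w ^ 0) : ℤ) + NN w ρ cP ![1, 1, 1, 1, 1, 1] (w ^ 1) +
        NN w ρ cP ![1, 1, 1, 1, 1, 1] (w ^ 2) = 2 := by exact_mod_cast h1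
    exact this
  -- the sums for one block
  set B : (ℕ → ℕ → ℕ → ℕ → ℕ) → ℕ → ℤ := fun s t =>
    ∑ a ∈ Finset.Ico 1 3, ∑ b ∈ Finset.Ico 1 3, ∑ e ∈ Finset.Ico 1 3,
      (g ((t * (2 * s t a b e)) % 3) - g ((t * (2 * s t a b e + 1)) % 3)) with hB
  have hone : ∀ (e0 : ↥P18) (s : ℕ → ℕ → ℕ → ℕ → ℕ), (∀ i, Commute e0 (xP i)) →
      (∀ t a b e, ∀ v ∈ WN w ρ ![t, t, t, a, b, e], ρ e0 v = w ^ s t a b e • v) →
      dd w ⊤ (ρ (cP * e0)) = (∑ a ∈ Finset.range 3, ∑ b ∈ Finset.range 3, ∑ e ∈ Finset.range 3,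
        ((NN w ρ cP ![0, 0, 0, a, b, e] (w ^ (2 * s 0 a b e)) : ℤ) -
        NN w ρ cP ![0, 0, 0, a, b, e] (w ^ (2 * s 0 a b e + 1)))) + B s 1 + B s 2 := by
    intro e0 s he hs
    rw [one_eval hw he hs, Finset.sum_range_succ, Finset.sum_range_succ, Finset.sum_range_one]
    have e1 := eval_block (g := g) (N := fun t a b e k => (NN w ρ cP ![t, t, t, a, b, e] (w ^ k) : ℤ)) H s 1
      (Or.inl rfl)
    have e2 := eval_block (g := g) (N := fun t a b e k => (NN w ρ cP ![t, t, t, a, b, e] (w ^ k) : ℤ)) H s 2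
      (Or.inr rfl)
    simp only [hB]
    rw [← e1, ← e2]
  have hI : Finset.Ico 1 3 = ({1, 2} : Finset ℕ) := by decide
  -- the elements
  have cxx : ∀ i j : Fin 6, ∀ l, Commute (xP i * xP j) (xP l) := fun i j l =>
    Commute.mul_left (xP_commute i l) (xP_commute j l)
  have cxxx : ∀ i j k : Fin 6, ∀ l, Commute (xP i * xP j * xP k) (xP l) := fun i j k l =>
    Commute.mul_left (cxx i j l) (xP_commute k l)
  have act : ∀ {m : Fin 6 → ℕ} {v : V}, v ∈ WN w ρ m → ∀ i, ρ (xP i) v = w ^ m i • v := fun h i => h i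
  have k1 := hone 1 (fun _ _ _ _ => 0) (fun i => Commute.one_left _) (by
    intro t a b e v _
    rw [map_one, pow_zero, one_smul]; rfl)
  have k2 := hone (xP 0) (fun t _ _ _ => t) (fun i => xP_commute 0 i) (by
    intro t a b e v hv
    exact act hv 0)
  have k3 := hone (xP 0 * xP 0 * (xP 3 * xP 4 * xP 5)) (fun t a b e => (t + t) + (a + b + e))
    (fun i => Commute.mul_left (cxx 0 0 i) (cxxx 3 4 5 i)) (by
    intro t a b e v hv
    exact act_comp (act_comp (act hv 0) (act hv 0)) (act_comp (act_comp (act hv 3) (act hv 4)) (act hv 5)))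
  have k4 := hone (xP 3 * xP 4 * xP 5) (fun t a b e => a + b + e)
    (fun i => cxxx 3 4 5 i) (by
    intro t a b e v hv
    exact act_comp (act_comp (act hv 3) (act hv 4)) (act hv 5))
  have ha1 := a_one (w := w) hfus
  rw [k1, k2] at ha1
  simp only [hB, hI] at ha1
  norm_num [Finset.sum_pair] at ha1
  have hg02 : g 0 = g 2 := by linarith
  have ha3 := a_three (w := w) hfus
  have ha4 := a_four (w := w) hfus
  rw [k3] at ha3
  rw [k4] at ha4
  have hdiff : B (fun t a b e => (t + t) + (a + b + e)) 1 + B (fun t a b e => (t + t) + (a + b + e)) 2 -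
      B (fun t a b e => a + b + e) 1 - B (fun t a b e => a + b + e) 2 = - 3 * (g 1 - g 0) := by
    simp only [hB, hI]
    norm_num [Finset.sum_pair]
    linarith
  have hdiff2 : dd w ⊤ (ρ (cP * dP * (xP 0 * xP 0 * (xP 3 * xP 3)))) - dd w ⊤ (ρ (cP * dP * (xP 3 * xP 3))) =
      - 3 * (g 1 - g 0) := by
    rw [ha3, ha4, ← hdiff]
    simp only [zero_add]
    ring
  -- two blocks
  set G1 : ℕ → ℤ := fun k => (NN w ρ (cP * dP) ![1, 1, 1, 1, 1, 1] (w ^ k) : ℤ) with hG1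
  set G2 : ℕ → ℤ := fun k => (NN w ρ (cP * dP) ![1, 1, 1, 2, 2, 2] (w ^ k) : ℤ) with hG2
  have htwo : ∀ (e0 : ↥P18) (s : ℕ → ℕ → ℕ), (∀ i, Commute e0 (xP i)) →
      (∀ t a, ∀ v ∈ WN w ρ ![t, t, t, a, a, a], ρ e0 v = w ^ s t a • v) →
      dd w ⊤ (ρ (cP * dP * e0)) =
        ((NN w ρ (cP * dP) ![0, 0, 0, 0, 0, 0] (w ^ (2 * s 0 0)) : ℤ) -
          NN w ρ (cP * dP) ![0, 0, 0, 0, 0, 0] (w ^ (2 * s 0 0 + 1))) +
        (G1 ((2 * s 1 1) % 3) - G1 ((2 * s 1 1 + 1) % 3)) +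
        (G2 ((2 * s 1 2) % 3) - G2 ((2 * s 1 2 + 1) % 3)) +
        (G2 ((2 * (2 * s 2 1)) % 3) - G2 ((2 * (2 * s 2 1 + 1)) % 3)) +
        (G1 ((2 * (2 * s 2 2)) % 3) - G1 ((2 * (2 * s 2 2 + 1)) % 3)) := by
    intro e0 s he hs
    rw [two_eval hw he hs]
    simp only [Finset.sum_range_succ, Finset.sum_range_zero, zero_add]
    have z01 : ∀ z, NN w ρ (cP * dP) ![0, 0, 0, 1, 1, 1] z = 0 := fun z => hz _ _ z (by decide) (by decide)
    have z02 : ∀ z, NN w ρ (cP * dP) ![0, 0, 0, 2, 2, 2] z = 0 := fun z => hz _ _ z (by decide) (by decide)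
    have z10 : ∀ z, NN w ρ (cP * dP) ![1, 1, 1, 0, 0, 0] z = 0 := fun z => hz _ _ z (by decide) (by decide)
    have z20 : ∀ z, NN w ρ (cP * dP) ![2, 2, 2, 0, 0, 0] z = 0 := fun z => hz _ _ z (by decide) (by decide)
    have y1 : ∀ k, (NN w ρ (cP * dP) ![1, 1, 1, 1, 1, 1] (w ^ k) : ℤ) = G1 (k % 3) := fun k =>
      congrArg _ (NN_congr hw _ _ _ (by omega))
    have y2 : ∀ k, (NN w ρ (cP * dP) ![1, 1, 1, 2, 2, 2] (w ^ k) : ℤ) = G2 (k % 3) := fun k =>
      congrArg _ (NN_congr hw _ _ _ (by omega))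
    rw [z01, z01, z02, z02, z10, z10, z20, z20, ← f_seven hw hfus, ← f_seven hw hfus, ← f_seven' hw hfus,
      ← f_seven' hw hfus, y1, y1, y1, y1, y2, y2, y2, y2]
    push_cast
    ring
  have l1 := htwo 1 (fun _ _ => 0) (fun i => Commute.one_left _) (by
    intro t a v _
    rw [map_one, pow_zero, one_smul]; rfl)
  have l2 := htwo (xP 3) (fun _ a => a) (fun i => xP_commute 3 i) (fun t a v hv => act hv 3)
  have l3 := htwo (xP 0 * xP 0 * (xP 3 * xP 3)) (fun t a => (t + t) + (a + a))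
    (fun i => Commute.mul_left (cxx 0 0 i) (cxx 3 3 i)) (fun t a v hv =>
      act_comp (act_comp (act hv 0) (act hv 0)) (act_comp (act hv 3) (act hv 3)))
  have l4 := htwo (xP 3 * xP 3) (fun _ a => a + a) (fun i => cxx 3 3 i) (fun t a v hv =>
      act_comp (act hv 3) (act hv 3))
  have ha2 := a_two (w := w) hfus
  rw [l1, l2] at ha2
  rw [l3, l4] at hdiff2
  norm_num at ha2 hdiff2
  -- joint multiplicities
  have u : ∀ k, G1 k = ∑ i ∈ Finset.range 3, (JJ w ρ ![1, 1, 1, 1, 1, 1] i ((k + 2 * i) % 3) : ℤ) := by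
    intro k
    show (NN w ρ (cP * dP) _ _ : ℤ) = _
    rw [sum_cd hw (by decide) (by decide), Nat.cast_sum]
    exact Finset.sum_congr rfl fun i _ => congrArg _ (JJ_congr hw _ _ _ (by omega))
  have v : ∀ k, G2 k = ∑ i ∈ Finset.range 3, (JJ w ρ ![1, 1, 1, 2, 2, 2] i ((k + 2 * i) % 3) : ℤ) := by
    intro k
    show (NN w ρ (cP * dP) _ _ : ℤ) = _
    rw [sum_cd hw (by decide) (by decide), Nat.cast_sum]
    exact Finset.sum_congr rfl fun i _ => congrArg _ (JJ_congr hw _ _ _ (by omega))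
  have uc : ∀ i, g i = ∑ j ∈ Finset.range 3, (JJ w ρ ![1, 1, 1, 1, 1, 1] i j : ℤ) := by
    intro i
    show (NN w ρ cP _ _ : ℤ) = _
    rw [sum_c hw (by decide) (by decide), Nat.cast_sum]
  have ud : ∀ j, g j = ∑ i ∈ Finset.range 3, (JJ w ρ ![1, 1, 1, 1, 1, 1] i j : ℤ) := by
    intro i
    show (NN w ρ cP _ _ : ℤ) = _
    rw [f_six hw hfus, sum_d hw (by decide) (by decide), Nat.cast_sum]
  have vc : ∀ i, g i = ∑ j ∈ Finset.range 3, (JJ w ρ ![1, 1, 1, 2, 2, 2] i j : ℤ) := by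
    intro i
    show (NN w ρ cP _ _ : ℤ) = _
    rw [f_one hw hfus (Or.inr rfl) (Or.inr rfl) (Or.inr rfl), sum_c hw (by decide) (by decide), Nat.cast_sum]
  have vd : ∀ j, g ((2 * j) % 3) = ∑ i ∈ Finset.range 3, (JJ w ρ ![1, 1, 1, 2, 2, 2] i j : ℤ) := by
    intro j
    show (NN w ρ cP _ _ : ℤ) = _
    rw [NN_congr hw ρ cP _ (show (2 * j) % 3 % 3 = (2 * j) % 3 by omega), f_six hw hfus, f_six' hw hfus,
      sum_d hw (by decide) (by decide), Nat.cast_sum]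
  have u0 := u 0
  have u1 := u 1
  have u2 := u 2
  have v0 := v 0
  have v1 := v 1
  have v2 := v 2
  have uc0 := uc 0
  have uc1 := uc 1
  have uc2 := uc 2
  have ud0 := ud 0
  have ud1 := ud 1
  have ud2 := ud 2
  have vc0 := vc 0
  have vc1 := vc 1
  have vc2 := vc 2
  have vd0 := vd 0
  have vd1 := vd 1
  have vd2 := vd 2
  clear_value G1 G2 g
  simp only [Finset.sum_range_succ, Finset.sum_range_zero, zero_add] at u0 u1 u2 v0 v1 v2 uc0 uc1 uc2 ud0 ud1 ud2 vc0 vc1 vc2 vd0 vd1 vd2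
  norm_num at u0 u1 u2 v0 v1 v2 vd0 vd1 vd2
  refine arith1 (u00 := JJ w ρ ![1, 1, 1, 1, 1, 1] 0 0) (u01 := JJ w ρ ![1, 1, 1, 1, 1, 1] 0 1)
    (u02 := JJ w ρ ![1, 1, 1, 1, 1, 1] 0 2) (u10 := JJ w ρ ![1, 1, 1, 1, 1, 1] 1 0)
    (u11 := JJ w ρ ![1, 1, 1, 1, 1, 1] 1 1) (u12 := JJ w ρ ![1, 1, 1, 1, 1, 1] 1 2)
    (u20 := JJ w ρ ![1, 1, 1, 1, 1, 1] 2 0) (u21 := JJ w ρ ![1, 1, 1, 1, 1, 1] 2 1)
    (u22 := JJ w ρ ![1, 1, 1, 1, 1, 1] 2 2)
    (v00 := JJ w ρ ![1, 1, 1, 2, 2, 2] 0 0) (v01 := JJ w ρ ![1, 1, 1, 2, 2, 2] 0 1)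
    (v02 := JJ w ρ ![1, 1, 1, 2, 2, 2] 0 2) (v10 := JJ w ρ ![1, 1, 1, 2, 2, 2] 1 0)
    (v11 := JJ w ρ ![1, 1, 1, 2, 2, 2] 1 1) (v12 := JJ w ρ ![1, 1, 1, 2, 2, 2] 1 2)
    (v20 := JJ w ρ ![1, 1, 1, 2, 2, 2] 2 0) (v21 := JJ w ρ ![1, 1, 1, 2, 2, 2] 2 1)
    (v22 := JJ w ρ ![1, 1, 1, 2, 2, 2] 2 2)
    (by refine ⟨?_, ?_, ?_, ?_, ?_, ?_, ?_, ?_, ?_⟩ <;> exact Int.natCast_nonneg _)
    (by refine ⟨?_, ?_, ?_, ?_, ?_, ?_, ?_, ?_, ?_⟩ <;> exact Int.natCast_nonneg _)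
    hg02 htot u0 u1 u2 v0 v1 v2 uc0 uc1 uc2 ud0 ud1 ud2 vc0 vc1 vc2 vd0 vd1 vd2 ?_ ?_
  · linarith
  · linarith

end Main

end Cfsg.Agent.H224.E8
end
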